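import Groth.Agent.H28SGA7.Descend
import Groth.Prelude.Def_Red
import Mathlib

/-!
# Base change of exact sequences of group schemes
-/

set_option autoImplicit false
set_option linter.style.haveILetI false
set_option backward.isDefEq.respectTransparency.types false
set_option maxHeartbeats 800000

universe u

open CategoryTheory CategoryTheory.Limits MonoidalCategory CartesianMonoidalCategory MonObj AlgebraicGeometry

namespace Groth.Agent.H28Const

variable {S S' : Scheme.{u}} {M E P : Over S} [GrpObj M] [GrpObj E] [GrpObj P] {u : M ⟶ E} {v : E ⟶ P}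

theorem isExactSeq_bc (hex : NonAbH1.IsExactSeq Scheme.fppfPrecoverage u v) (f : S' ⟶ S) :
    NonAbH1.IsExactSeq Scheme.fppfPrecoverage ((Over.pullback f).map u) ((Over.pullback f).map v) := by
  classical
  obtain ⟨hu, hv, huv, hP, R, hR, hsec⟩ := hex
  haveI := hu
  haveI := hv
  refine ⟨inferInstance, inferInstance, by rw [← Functor.map_comp, huv, Functor.map_one], ?_, ?_⟩
  · have h1 : IsPullback ((Over.pullback f).map (fst E M)) ((Over.pullback f).map ((E ◁ u) ≫ μ[E]))
        ((Over.pullback f).map v) ((Over.pullback f).map v) := hP.map (Over.pullback f)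
    refine h1.of_iso (Functor.Monoidal.μIso (Over.pullback f) E M).symm (Iso.refl _) (Iso.refl _) (Iso.refl _)
      ?_ ?_ (by simp) (by simp)
    · simp [Functor.OplaxMonoidal.δ_fst]
    · simp only [Iso.refl_hom, Category.comp_id, Iso.symm_hom, Functor.Monoidal.μIso_inv]
      rw [← cancel_epi (Functor.LaxMonoidal.μ (Over.pullback f) E M), Functor.Monoidal.μ_δ_assoc, Functor.map_comp,
        ← Category.assoc (Functor.LaxMonoidal.μ (Over.pullback f) E M),
        ← Functor.LaxMonoidal.μ_natural_right, Category.assoc, Functor.obj.μ_def]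
  · let p := pullback.fst P.hom f
    have hloc : ∀ x : ↥(Red.bc f P).left, ∃ (Y : Scheme.{u}) (g : Y ⟶ P.left), R g ∧ p x ∈ Set.range g := by
      intro x
      obtain ⟨Y', g', hg', hx⟩ := hR.1 (p x)
      obtain ⟨hg⟩ := hg'
      rename_i W g
      obtain ⟨y, hy⟩ := hx
      exact ⟨W, g, hg, y, hy⟩
    choose Y g hg hy using hloc
    refine ⟨Presieve.ofArrows (fun x => pullback p (g x)) (fun x => pullback.fst p (g x)), ?_, ?_⟩
    · show Presieve.ofArrows (fun x => pullback p (g x)) (fun x => pullback.fst p (g x)) ∈
        Scheme.precoverage (@Flat ⊓ @LocallyOfFinitePresentation) _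
      rw [Scheme.ofArrows_mem_precoverage_iff]
      refine ⟨fun x => ?_, fun x => ?_⟩
      · obtain ⟨y, hy⟩ := hy x
        obtain ⟨w, hw, -⟩ := Scheme.Pullback.exists_preimage_pullback (f := p) (g := g x) x y hy.symm
        exact ⟨x, w, hw⟩
      · exact ⟨MorphismProperty.pullback_fst (P := @Flat) _ _ (hR.2 (hg x)).1,
          MorphismProperty.pullback_fst (P := @LocallyOfFinitePresentation) _ _ (hR.2 (hg x)).2⟩
    · rintro S'' _ ⟨x⟩
      obtain ⟨σ, hσ⟩ := hsec (g x) (hg x)
      have hσ' : σ ≫ v.left = g x := hσ
      have hσ2 : σ ≫ E.hom = g x ≫ P.hom := by rw [← hσ', Category.assoc, Over.w v]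
      refine ⟨pullback.lift (pullback.snd p (g x) ≫ σ) (pullback.fst p (g x) ≫ pullback.snd P.hom f) ?_, ?_⟩
      · rw [Category.assoc, hσ2, Category.assoc, ← pullback.condition (f := P.hom) (g := f),
          pullback.condition_assoc (f := p) (g := g x)]
      · show pullback.lift _ _ _ ≫ ((Over.pullback f).map v).left = pullback.fst p (g x)
        refine pullback.hom_ext ?_ ?_
        · rw [Category.assoc, show ((Over.pullback f).map v).left ≫ pullback.fst P.hom f =
            pullback.fst E.hom f ≫ v.left from pullback.lift_fst _ _ _, pullback.lift_fst_assoc, Category.assoc,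
            hσ', pullback.condition]
        · rw [Category.assoc, show ((Over.pullback f).map v).left ≫ pullback.snd P.hom f =
            pullback.snd E.hom f from pullback.lift_snd _ _ _, pullback.lift_snd]

end Groth.Agent.H28Const
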