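import Groth.Agent.H28Const.Extend
import Mathlib

/-!
# Extensions by constant torsion-free groups split as schemes
-/

set_option autoImplicit false
set_option linter.style.haveILetI false
set_option backward.isDefEq.respectTransparency.types false
set_option maxHeartbeats 800000

universe u

open CategoryTheory CategoryTheory.Limits MonoidalCategory CartesianMonoidalCategory MonObj AlgebraicGeometry

namespace Groth.Agent.H28Const

variable {B : Scheme.{u}} {M : Type u} [Group M] {G E P : Over B} [GrpObj G] [GrpObj E] [GrpObj P]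
  {e : G ≅ TwC.const B M} {u : G ⟶ E} {v : E ⟶ P}

/-- An extension by a constant torsion-free group of a smooth group over a geometrically unibranch base has a
normalised section. -/
theorem exists_section_ext (hG : TwC.IsConstGrp M G e) (hex : NonAbH1.IsExactSeq Scheme.fppfPrecoverage u v)
    (hM : ∀ z : M, IsOfFinOrder z → z = 1) [IrreducibleSpace B] [Smooth P.hom]
    (hB : ∀ b : B, CAlg2.IsGeomUnibranch (B.presheaf.stalk b)) :
    ∃ s : P ⟶ E, s ≫ v = 𝟙 P ∧ (1 : 𝟙_ (Over B) ⟶ P) ≫ s = 1 := by
  haveI hu : IsMonHom u := hex.1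
  haveI hvm : IsMonHom v := hex.2.1
  have hkill : ∀ {T : Over B} (g : T ⟶ G), (g ≫ u) ≫ v = 1 := fun g => by
    rw [Category.assoc, hex.2.2.1, MonObj.comp_one]
  obtain ⟨e1, hG1⟩ := exists_bc_isConstGrp hG P.hom
  let G1 := Red.bc P.hom G
  let X : Over P.left := Over.mk v.left
  let low : ∀ {T : Over P.left}, (T ⟶ G1) → ((Over.map P.hom).obj T ⟶ G) := fun {T} =>
    (H21Diag.bcEquiv P.hom G T).symm
  let up : ∀ {T : Over P.left}, (T ⟶ X) → ((Over.map P.hom).obj T ⟶ E) := fun {T} x =>
    Over.homMk x.left (by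
      show x.left ≫ E.hom = T.hom ≫ P.hom
      rw [← Over.w v, ← Category.assoc, ← Over.w x]
      rfl)
  have hupv : ∀ {T : Over P.left} (z : (Over.map P.hom).obj T ⟶ E) (x : T ⟶ X), z ≫ v = up x ≫ v →
      z.left ≫ v.left = T.hom := fun z x h => by
    have h1 := congrArg (fun q : _ ⟶ P => q.left) h
    simp only [Over.comp_left] at h1
    rw [h1]
    exact Over.w x
  have hv1 : ∀ {T : Over P.left} (g : T ⟶ G1) (x : T ⟶ X), ((low g ≫ u) * up x) ≫ v = up x ≫ v := by
    intro T g x
    rw [MonObj.mul_comp, hkill, _root_.one_mul]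
  let act0 : G1 ⊗ X ⟶ X :=
    Over.homMk ((low (fst G1 X) ≫ u) * up (snd G1 X)).left (hupv _ _ (hv1 _ _))
  have hact : ∀ {T : Over P.left} (g : T ⟶ G1) (x : T ⟶ X),
      up (lift g x ≫ act0) = (low g ≫ u) * up x := by
    intro T g x
    have h1 : up (lift g x ≫ act0) = (Over.map P.hom).map (lift g x) ≫ ((low (fst G1 X) ≫ u) * up (snd G1 X)) :=
      Over.OverMorphism.ext rfl
    rw [h1, MonObj.comp_mul, ← Category.assoc,
      ← show low (lift g x ≫ fst G1 X) = (Over.map P.hom).map (lift g x) ≫ low (fst G1 X) from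
        (Over.mapPullbackAdj P.hom).homEquiv_naturality_left_symm (lift g x) (fst G1 X), lift_fst]
    congr 1
    exact Over.OverMorphism.ext (by
      show (lift g x).left ≫ (snd G1 X).left = x.left
      rw [← Over.comp_left, lift_snd])
  have up_inj : ∀ {T : Over P.left} {x y : T ⟶ X}, up x = up y → x = y := fun h =>
    Over.OverMorphism.ext (by simpa [up] using congrArg (fun z : _ ⟶ E => z.left) h)
  have low_mul : ∀ {T : Over P.left} (g h : T ⟶ G1), low (g * h) = low g * low h := fun g h =>
    H21Diag.bcEquiv_symm_mul P.hom G _ g h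
  have low_one : ∀ {T : Over P.left}, low (1 : T ⟶ G1) = 1 := fun {T} => by
    have h := low_mul (1 : T ⟶ G1) 1
    rw [_root_.one_mul] at h
    exact left_eq_mul.1 h
  let a : AlgGrp.Action G1 X :=
    { act := act0
      one_act := by
        refine up_inj ?_
        rw [show (η[G1] ▷ X) = lift (1 : 𝟙_ _ ⊗ X ⟶ G1) (snd _ X) from CartesianMonoidalCategory.hom_ext _ _
          (by rw [lift_fst, whiskerRight_fst, Hom.one_def, Subsingleton.elim (fst (𝟙_ _) X) (toUnit _)])
          (by rw [lift_snd, whiskerRight_snd]), hact, low_one, MonObj.one_comp, _root_.one_mul, leftUnitor_hom]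
      mul_act := by
        refine up_inj ?_
        have h1 : (μ[G1] ▷ X) = lift ((fst (G1 ⊗ G1) X ≫ fst G1 G1) * (fst (G1 ⊗ G1) X ≫ snd G1 G1))
            (snd (G1 ⊗ G1) X) := CartesianMonoidalCategory.hom_ext _ _
          (by rw [lift_fst, whiskerRight_fst, Hom.mul_def, ← comp_lift, lift_fst_snd, Category.comp_id])
          (by rw [lift_snd, whiskerRight_snd])
        have h2 : (α_ G1 G1 X).hom ≫ (G1 ◁ act0) =
            lift (fst (G1 ⊗ G1) X ≫ fst G1 G1) (lift (fst (G1 ⊗ G1) X ≫ snd G1 G1) (snd (G1 ⊗ G1) X) ≫ act0) :=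
          CartesianMonoidalCategory.hom_ext _ _
            (by rw [lift_fst, Category.assoc, whiskerLeft_fst, associator_hom_fst])
            (by
              rw [lift_snd, Category.assoc, whiskerLeft_snd, ← Category.assoc]
              congr 1
              apply CartesianMonoidalCategory.hom_ext <;> simp)
        rw [h1, ← Category.assoc, h2, hact, hact, hact, low_mul, MonObj.mul_comp, _root_.mul_assoc] }
  have hps : NonAbH1.IsPseudoTorsorSch a := by
    have hex1 : ∀ {T : Over P.left} (x y : T ⟶ X), ∃! g : T ⟶ G1, lift g x ≫ act0 = y := by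
      intro T x y
      obtain ⟨h, hh, huniq⟩ := H28SGA7.exists_unique_kernel hex (up y * (up x)⁻¹) (by
        rw [MonObj.mul_comp, GrpObj.inv_comp, mul_inv_eq_one]
        exact Over.OverMorphism.ext ((Over.w y).trans (Over.w x).symm))
      refine ⟨H21Diag.bcEquiv P.hom G T h, up_inj ?_, fun g hg => ?_⟩
      · rw [hact, show low (H21Diag.bcEquiv P.hom G T h) = h from Equiv.symm_apply_apply _ _, hh,
          inv_mul_cancel_right]
      · rw [← huniq (low g) (show low g ≫ u = _ by rw [eq_mul_inv_iff_mul_eq, ← hact, show lift g x ≫ act0 = y from hg])]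
        exact ((H21Diag.bcEquiv P.hom G T).apply_symm_apply g).symm
    show IsIso (lift act0 (snd G1 X))
    obtain ⟨g, hg, -⟩ := hex1 (snd X X) (fst X X)
    refine ⟨lift g (snd X X), ?_, ?_⟩
    · refine CartesianMonoidalCategory.hom_ext _ _ ?_ ?_
      · rw [Category.assoc, lift_fst, Category.id_comp]
        refine (hex1 (snd G1 X) act0).unique ?_ (by rw [lift_fst_snd, Category.id_comp])
        have h := congrArg (fun z => lift act0 (snd G1 X) ≫ z) hg
        simp only [← Category.assoc, comp_lift, lift_snd, lift_fst] at h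
        exact h
      · rw [Category.assoc, lift_snd, lift_snd, Category.id_comp]
    · rw [comp_lift, lift_snd, hg, lift_fst_snd]
  obtain ⟨g, hg⟩ := hasSection_of_geomUnibranch (e := e1) a hG1 ⟨hps, hex.2.2.2.2⟩ hM P.hom hB
  let s₀ : P ⟶ E := Over.homMk g (by
    rw [← Over.w v, ← Category.assoc]
    show (g ≫ X.hom) ≫ P.hom = _
    rw [hg, Category.id_comp])
  have hs₀ : s₀ ≫ v = 𝟙 P := Over.OverMorphism.ext hg
  refine ⟨s₀ * (toUnit P ≫ (1 : 𝟙_ (Over B) ⟶ P) ≫ s₀)⁻¹, ?_, ?_⟩
  · rw [MonObj.mul_comp, GrpObj.inv_comp, Category.assoc, Category.assoc, hs₀, Category.comp_id, MonObj.comp_one,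
      inv_one, _root_.mul_one]
  · rw [MonObj.comp_mul, GrpObj.comp_inv, ← Category.assoc _ (toUnit P),
      Subsingleton.elim ((1 : 𝟙_ (Over B) ⟶ P) ≫ toUnit P) (𝟙 _), Category.id_comp, mul_inv_cancel]

end Groth.Agent.H28Const
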