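import Groth.Agent.H28Const.Trivial
import Groth.Agent.H21Diag.Points
import Groth.Agent.H21Desc.ConstPullback
import Groth.Agent.H06EGA14.FiniteBaseChangeAlgebra
import Mathlib

/-!
# Constant groups and generic fibres over geometrically unibranch bases
-/

set_option autoImplicit false
set_option linter.style.haveILetI false
set_option backward.isDefEq.respectTransparency.types false
set_option maxHeartbeats 800000

universe u

open CategoryTheory CategoryTheory.Limits MonoidalCategory CartesianMonoidalCategory MonObj AlgebraicGeometry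

namespace Groth.Agent.H28Const

variable {S : Scheme.{u}} {M : Type u} [Group M] {G : Over S} [GrpObj G] {e : G ≅ TwC.const S M}

theorem hom_ext_idx (hG : TwC.IsConstGrp M G e) {T : Over S} {a b : T ⟶ G}
    (h : ∀ t, idx (a ≫ e.hom) t = idx (b ≫ e.hom) t) : a = b := by
  rw [← mul_inv_eq_one]
  refine eq_one_of_idx hG _ fun t => ?_
  have h1 := idx_mul hG (a * b⁻¹) b t
  rw [inv_mul_cancel_right, h t] at h1
  exact mul_eq_right.1 h1.symm

theorem exists_idx_eq (e : G ≅ TwC.const S M) {T : Over S} (f : T.left → M) (hf : IsLocallyConstant f) :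
    ∃ a : T ⟶ G, ∀ t, idx (a ≫ e.hom) t = f t := by
  let W : M → T.left.Opens := fun m => ⟨f ⁻¹' {m}, hf.isOpen_fiber m⟩
  let ι' := fun m => (W m).ι
  haveI : IsOpenImmersion (Sigma.desc ι') := isOpenImmersion_sigmaDesc _ ι' fun m n hmn => by
    refine Set.disjoint_left.mpr ?_
    rintro x hx hy
    simp only [Scheme.Opens.opensRange_ι, ι', Scheme.Opens.range_ι] at hx hy
    exact hmn (hx.symm.trans hy)
  haveI : Surjective (Sigma.desc ι') := ⟨fun x => ⟨Sigma.ι (fun m => (W m).toScheme) (f x) ⟨x, rfl⟩, by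
    rw [← Scheme.Hom.comp_apply, Sigma.ι_desc]; rfl⟩⟩
  haveI : IsIso (Sigma.desc ι') := (isIso_iff_isOpenImmersion_and_surjective _).2 ⟨inferInstance, inferInstance⟩
  let g : (∐ fun m => (W m).toScheme) ⟶ (TwC.const S M).left :=
    Sigma.desc fun m => (ι' m ≫ T.hom) ≫ Sigma.ι (fun _ : M => S) m
  have hg : g ≫ (TwC.const S M).hom = Sigma.desc ι' ≫ T.hom := Sigma.hom_ext _ _ fun m => by
    simp [g]
  let z : T ⟶ TwC.const S M := Over.homMk (inv (Sigma.desc ι') ≫ g) (by
    show (inv (Sigma.desc ι') ≫ g) ≫ (TwC.const S M).hom = T.hom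
    rw [Category.assoc, hg, IsIso.inv_hom_id_assoc])
  refine ⟨z ≫ e.inv, fun t => ?_⟩
  rw [Category.assoc, e.inv_hom_id, Category.comp_id]
  refine idx_eq ⟨T.hom t, ?_⟩
  obtain ⟨w, hw⟩ : ∃ w : (W (f t)).toScheme, ι' (f t) w = t := ⟨⟨t, rfl⟩, rfl⟩
  have hwt : Sigma.desc ι' (Sigma.ι (fun m => (W m).toScheme) (f t) w) = t := by
    rw [← Scheme.Hom.comp_apply, Sigma.ι_desc, hw]
  have hz : z.left t = g (Sigma.ι (fun m => (W m).toScheme) (f t) w) := by
    conv_lhs => rw [← hwt]
    show (inv (Sigma.desc ι') ≫ g) _ = _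
    rw [← Scheme.Hom.comp_apply, IsIso.hom_inv_id_assoc]
  rw [hz, ← Scheme.Hom.comp_apply (Sigma.ι (fun m => (W m).toScheme) (f t)), Sigma.ι_desc, Scheme.Hom.comp_apply,
    Scheme.Hom.comp_apply, hw]

/-- A base change of a constant group is constant. -/
theorem exists_bc_isConstGrp (hG : TwC.IsConstGrp M G e) {S' : Scheme.{u}} (f : S' ⟶ S) :
    ∃ e' : Red.bc f G ≅ TwC.const S' M, TwC.IsConstGrp M (Red.bc f G) e' := by
  have hP := H21Desc.isPullback_constAny f M
  let c : Red.bc f (TwC.const S M) ≅ TwC.const S' M :=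
    Over.isoMk hP.isoPullback.symm (by exact hP.isoPullback_inv_snd)
  let e' := (Over.pullback f).mapIso e ≪≫ c
  refine ⟨e', fun m n => ?_⟩
  have hl : ∀ m, (H21Diag.bcEquiv f G (𝟙_ (Over S'))).symm (TwC.pt S' M m ≫ e'.inv) =
      toUnit _ ≫ TwC.pt S M m ≫ e.inv := fun m => by
    refine Over.OverMorphism.ext ?_
    have h1 := H21Diag.bcEquiv_left_fst f G (𝟙_ (Over S'))
      ((H21Diag.bcEquiv f G (𝟙_ (Over S'))).symm (TwC.pt S' M m ≫ e'.inv))
    rw [Equiv.apply_symm_apply] at h1
    rw [← h1]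
    show (Sigma.ι (fun _ : M => S') m ≫ hP.isoPullback.hom ≫ ((Over.pullback f).map e.inv).left) ≫
      pullback.fst G.hom f = (toUnit _ : (Over.map f).obj (𝟙_ (Over S')) ⟶ _).left ≫
        Sigma.ι (fun _ : M => S) m ≫ e.inv.left
    rw [Category.assoc, Category.assoc, show ((Over.pullback f).map e.inv).left ≫ pullback.fst G.hom f =
      pullback.fst (TwC.const S M).hom f ≫ e.inv.left from pullback.lift_fst _ _ _,
      ← Category.assoc hP.isoPullback.hom, show hP.isoPullback.hom ≫ pullback.fst (TwC.const S M).hom f = _ from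
        hP.isoPullback_hom_fst, Sigma.ι_desc_assoc, Category.assoc]
    rfl
  refine (H21Diag.bcEquiv f G (𝟙_ (Over S'))).symm.injective ?_
  rw [H21Diag.bcEquiv_symm_mul, hl, hl, hl, ← MonObj.comp_mul, hG]

theorem isGeomUnibranch_Spec_field (k : Type u) [Field k] (x : Spec (CommRingCat.of k)) :
    CAlg2.IsGeomUnibranch ((Spec (CommRingCat.of k)).presheaf.stalk x) := by
  haveI : x.asIdeal.IsPrime := x.2
  have hu : x.asIdeal.primeCompl ≤ IsUnit.submonoid k := fun y hy =>
    IsUnit.mk0 y fun h0 => hy (by rw [h0]; exact zero_mem _)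
  let e₁ : k ≃ₐ[k] Localization.AtPrime x.asIdeal := IsLocalization.atUnits k x.asIdeal.primeCompl hu
  exact H06EGA14.isGeomUnibranch_of_ringEquiv
    (e₁.toRingEquiv.trans (StructureSheaf.stalkIso k x).toRingEquiv)
    (H06EGA14.isGeomUnibranch_of_isIntegrallyClosed k)

theorem smooth_tensor (A B : Over S) [Smooth A.hom] [Smooth B.hom] : Smooth (A ⊗ B).hom := by
  rw [← Over.w (fst A B)]
  haveI : Smooth (fst A B).left := MorphismProperty.pullback_fst (P := @Smooth) _ _ ‹Smooth B.hom›
  infer_instance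

section generic

variable [IrreducibleSpace S] (hS : ∀ s : S, CAlg2.IsGeomUnibranch (S.presheaf.stalk s))
  {ξ : S} (hξ : IsGenericPoint ξ (Set.univ : Set S))

include hξ in
theorem mem_range_of_isMax {T : Over S} [Flat T.hom] {c : T.left} (hc : IsMax c) :
    ∃ c', pullback.fst T.hom (S.fromSpecResidueField ξ) c' = c := by
  have h : c ∈ T.hom ⁻¹' {ξ} := (hc.eq_genericPoint T.hom).trans (hξ.eq (genericPoint_spec S)).symm
  rw [← Scheme.range_fromSpecResidueField, ← Scheme.Pullback.range_fst] at h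
  exact h

/-- The restriction of a point of `G` along the generic fibre. -/
theorem idx_pullback (T : Over S) (a : T ⟶ G) (c' : ↥(Red.bc (S.fromSpecResidueField ξ) T).left) :
    idx ((H21Diag.bcEquiv (S.fromSpecResidueField ξ) G _).symm
      ((Over.pullback (S.fromSpecResidueField ξ)).map a) ≫ e.hom) c' =
      idx (a ≫ e.hom) (pullback.fst T.hom (S.fromSpecResidueField ξ) c') := by
  let i := S.fromSpecResidueField ξ
  let ι₀ : (Over.map i).obj (Red.bc i T) ⟶ T := Over.homMk (pullback.fst T.hom i) pullback.condition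
  have h : (H21Diag.bcEquiv i G _).symm ((Over.pullback i).map a) = ι₀ ≫ a := by
    refine Over.OverMorphism.ext ?_
    have h1 := H21Diag.bcEquiv_left_fst i G _ ((H21Diag.bcEquiv i G _).symm ((Over.pullback i).map a))
    rw [Equiv.apply_symm_apply] at h1
    rw [← h1]
    exact pullback.lift_fst _ _ _
  rw [h, Category.assoc, idx_comp]
  rfl

include hS hξ in
theorem generic_injective (hG : TwC.IsConstGrp M G e) {T : Over S} [Smooth T.hom] {a b : T ⟶ G}
    (h : (Over.pullback (S.fromSpecResidueField ξ)).map a = (Over.pullback (S.fromSpecResidueField ξ)).map b) :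
    a = b := by
  refine hom_ext_idx hG fun t => ?_
  obtain ⟨c, hc, hct⟩ := exists_isMax t
  obtain ⟨c', rfl⟩ := mem_range_of_isMax hξ hc
  have key : ∀ z : T ⟶ G, idx (z ≫ e.hom) t =
      idx (z ≫ e.hom) (pullback.fst T.hom (S.fromSpecResidueField ξ) c') := fun z => by
    have hmem := hct.mem_open ((isLocallyConstant_idx (z ≫ e.hom)).isOpen_fiber _) (show t ∈ _ from rfl)
    exact hmem.symm
  rw [key a, key b, ← idx_pullback T a c', h, idx_pullback]

include hS hξ in
theorem generic_surjective (hG : TwC.IsConstGrp M G e) {T : Over S} [Smooth T.hom]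
    (w : Red.bc (S.fromSpecResidueField ξ) T ⟶ Red.bc (S.fromSpecResidueField ξ) G) :
    ∃ a : T ⟶ G, (Over.pullback (S.fromSpecResidueField ξ)).map a = w := by
  classical
  let i := S.fromSpecResidueField ξ
  let φ := fun z : ↥(Red.bc i T).left => idx ((H21Diag.bcEquiv i G _).symm w ≫ e.hom) z
  have hex : ∀ t : T.left, ∃ c', IsMax (pullback.fst T.hom i c') ∧ pullback.fst T.hom i c' ⤳ t := fun t => by
    obtain ⟨c, hc, hct⟩ := exists_isMax t
    obtain ⟨c', rfl⟩ := mem_range_of_isMax hξ hc
    exact ⟨c', hc, hct⟩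
  choose c' hc' hct using hex
  haveI : IsPreimmersion (pullback.fst T.hom i) := MorphismProperty.pullback_fst (P := @IsPreimmersion) _ _ inferInstance
  have hloc : IsLocallyConstant fun t => φ (c' t) := by
    refine (IsLocallyConstant.iff_exists_open _).2 fun t => ?_
    refine ⟨closure {pullback.fst T.hom i (c' t)}, isOpen_closure_isMax T.hom hS (hc' t), (hct t).mem_closure,
      fun t' ht' => ?_⟩
    have := isMax_unique T.hom hS (hc' t') (hct t') (hc' t) (specializes_iff_mem_closure.2 ht')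
    exact congrArg φ ((pullback.fst T.hom i).isEmbedding.injective this)
  obtain ⟨a, ha⟩ := exists_idx_eq e _ hloc
  refine ⟨a, (H21Diag.bcEquiv i G _).symm.injective (hom_ext_idx hG fun z => ?_)⟩
  rw [idx_pullback, ha]
  have hmax := hc' (pullback.fst T.hom i z)
  have hsp : c' (pullback.fst T.hom i z) ⤳ z :=
    (pullback.fst T.hom i).isEmbedding.isInducing.specializes_iff.1 (hct _)
  exact (hsp.mem_open ((isLocallyConstant_idx ((H21Diag.bcEquiv i G _).symm w ≫ e.hom)).isOpen_fiber _)
    (show z ∈ _ from rfl))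

end generic

end Groth.Agent.H28Const
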