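import Groth.Prelude.Def_TwC
import Groth.Prelude.Def_NonAbH2
import Groth.Agent.H28SGA7.Descend
import Mathlib

/-!
# Indices of points of constant group schemes
-/

set_option autoImplicit false
set_option linter.style.haveILetI false
set_option backward.isDefEq.respectTransparency.types false

universe u

open CategoryTheory CategoryTheory.Limits MonoidalCategory CartesianMonoidalCategory MonObj AlgebraicGeometry

namespace Groth.Agent.H28Const

variable {S : Scheme.{u}} {M : Type u}

theorem exists_index {T : Over S} (z : T ⟶ TwC.const S M) (t : T.left) :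
    ∃ m, z.left t ∈ Set.range (Sigma.ι (fun _ : M => S) m) := by
  obtain ⟨j, y, hy⟩ := (sigmaOpenCover fun _ : M => S).exists_eq (z.left t)
  exact ⟨j, y, hy⟩

/-- The index of the piece of the constant scheme to which a point is sent. -/
noncomputable def idx {T : Over S} (z : T ⟶ TwC.const S M) (t : T.left) : M :=
  (exists_index z t).choose

theorem idx_mem {T : Over S} (z : T ⟶ TwC.const S M) (t : T.left) :
    z.left t ∈ Set.range (Sigma.ι (fun _ : M => S) (idx z t)) :=
  (exists_index z t).choose_spec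

theorem idx_eq {T : Over S} {z : T ⟶ TwC.const S M} {t : T.left} {m : M}
    (h : z.left t ∈ Set.range (Sigma.ι (fun _ : M => S) m)) : idx z t = m := by
  obtain ⟨a, ha⟩ := idx_mem z t
  obtain ⟨b, hb⟩ := h
  exact (Sigma.mk.inj_iff.1 ((sigmaι_eq_iff (fun _ : M => S) _ _ a b).1 (ha.trans hb.symm))).1

theorem idx_comp {T T' : Over S} (f : T' ⟶ T) (z : T ⟶ TwC.const S M) (t : T'.left) :
    idx (f ≫ z) t = idx z (f.left t) := by
  refine idx_eq ?_
  rw [Over.comp_left, Scheme.Hom.comp_apply]
  exact idx_mem z _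

theorem isLocallyConstant_idx {T : Over S} (z : T ⟶ TwC.const S M) : IsLocallyConstant (idx z) := by
  refine (IsLocallyConstant.iff_exists_open _).2 fun t => ?_
  exact ⟨z.left ⁻¹' Set.range (Sigma.ι (fun _ : M => S) (idx z t)),
    (Sigma.ι (fun _ : M => S) _).isOpenEmbedding.isOpen_range.preimage z.left.continuous,
    idx_mem z t, fun _ h => idx_eq h⟩

theorem idx_pt (m : M) {T : Over S} (t : T.left) : idx (toUnit T ≫ TwC.pt S M m) t = m :=
  idx_eq ⟨(toUnit T).left t, by rw [Over.comp_left, Scheme.Hom.comp_apply]; rfl⟩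

/-- A point with constant index is a constant point. -/
theorem eq_pt {T : Over S} (z : T ⟶ TwC.const S M) (m : M) (h : ∀ t, idx z t = m) :
    z = toUnit T ≫ TwC.pt S M m := by
  have hr : Set.range z.left ⊆ Set.range (Sigma.ι (fun _ : M => S) m) := by
    rintro _ ⟨t, rfl⟩
    exact h t ▸ idx_mem z t
  let l := IsOpenImmersion.lift (Sigma.ι (fun _ : M => S) m) z.left hr
  have hl : l ≫ Sigma.ι (fun _ : M => S) m = z.left := IsOpenImmersion.lift_fac _ _ _
  have hl2 : l = T.hom := by
    have h := congrArg (· ≫ (TwC.const S M).hom) hl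
    simp only [Category.assoc, Over.w z] at h
    simpa using h
  refine Over.OverMorphism.ext ?_
  rw [← hl, hl2]
  simp [TwC.pt]

variable [Group M] {G : Over S} [GrpObj G] {e : G ≅ TwC.const S M}

theorem pt_one (hG : TwC.IsConstGrp M G e) : TwC.pt S M 1 ≫ e.inv = 1 := by
  have := hG 1 1
  rw [_root_.mul_one] at this
  exact mul_left_cancel (this.trans (_root_.mul_one _).symm)

theorem idx_one (hG : TwC.IsConstGrp M G e) {T : Over S} (t : T.left) :
    idx ((1 : T ⟶ G) ≫ e.hom) t = 1 := by
  rw [← MonObj.comp_one (toUnit T) (M := G), ← pt_one hG, Category.assoc, Category.assoc, e.inv_hom_id,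
    Category.comp_id, idx_pt]

/-- The point of `T` at `t`. -/
noncomputable def pointOver (T : Over S) (t : T.left) :
    Over.mk (T.left.fromSpecResidueField t ≫ T.hom) ⟶ T :=
  Over.homMk (T.left.fromSpecResidueField t)

theorem exists_pointOver {T : Over S} (t : T.left) :
    ∃ (T' : Over S) (f : T' ⟶ T) (r : T'.left), f.left r = t ∧ Subsingleton T'.left := by
  refine ⟨_, pointOver T t, (default : Spec (T.left.residueField t)), ?_, ?_⟩
  · exact Scheme.fromSpecResidueField_apply _ _
  · exact inferInstanceAs (Subsingleton (Spec (T.left.residueField t)))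

theorem idx_mul (hG : TwC.IsConstGrp M G e) {T : Over S} (a b : T ⟶ G) (t : T.left) :
    idx ((a * b) ≫ e.hom) t = idx (a ≫ e.hom) t * idx (b ≫ e.hom) t := by
  obtain ⟨T', f, r, rfl, hss⟩ := exists_pointOver t
  have key : ∀ c : T ⟶ G, f ≫ c = toUnit T' ≫ TwC.pt S M (idx (c ≫ e.hom) (f.left r)) ≫ e.inv := by
    intro c
    rw [← idx_comp, ← Category.assoc (toUnit T'), ← eq_pt (f ≫ c ≫ e.hom) _
      (fun s => by rw [Subsingleton.elim s r]), Category.assoc, Category.assoc, e.hom_inv_id, Category.comp_id]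
  rw [← idx_comp, ← Category.assoc f, MonObj.comp_mul, key a, key b, ← MonObj.comp_mul, hG, Category.assoc,
    Category.assoc, e.inv_hom_id, Category.comp_id, idx_pt]

theorem eq_one_of_idx (hG : TwC.IsConstGrp M G e) {T : Over S} (a : T ⟶ G)
    (h : ∀ t, idx (a ≫ e.hom) t = 1) : a = 1 := by
  rw [← cancel_mono e.hom, eq_pt _ _ h, ← MonObj.comp_one (toUnit T) (M := G), ← pt_one hG, Category.assoc,
    Category.assoc, e.inv_hom_id, Category.comp_id]

/-- On an extension of a quasi-compact group, an additive function to the kernel which is invariant on the fibres of the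
quotient takes only finitely many values. -/
theorem finite_range_idx {P E : Over S} [GrpObj P] [GrpObj E] [CompactSpace P.left] {u : G ⟶ E} {v : E ⟶ P}
    (hex : NonAbH1.IsExactSeq Scheme.fppfPrecoverage u v) (w : E ⟶ TwC.const S M)
    (hw : ∀ (T : Over S) (a b : T ⟶ E), a ≫ v = b ≫ v → a ≫ w = b ≫ w) : (Set.range (idx w)).Finite := by
  obtain ⟨-, -, -, -, R, hR, hsec⟩ := hex
  have hloc : ∀ x : P.left, ∃ (Y : Scheme.{u}) (g : Y ⟶ P.left) (σ : Y ⟶ E.left) (U : Y.Opens),
      σ ≫ v.left = g ∧ IsOpen (g '' (U : Set Y)) ∧ x ∈ g '' (U : Set Y) ∧ IsCompact (U : Set Y) := by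
    intro x
    obtain ⟨Y', g', hg', hx⟩ := hR.1 x
    obtain ⟨hg⟩ := hg'
    rename_i W g
    obtain ⟨y, rfl⟩ := hx
    obtain ⟨σ, hσ⟩ := hsec g hg
    haveI : Flat g := (hR.2 hg).1
    haveI : LocallyOfFinitePresentation g := (hR.2 hg).2
    obtain ⟨U, hU, hyU, -⟩ := exists_isAffineOpen_mem_and_subset (X := _) (x := y) (U := ⊤) trivial
    exact ⟨_, g, σ, U, hσ, g.isOpenMap _ U.isOpen, ⟨y, hyU, rfl⟩, hU.isCompact⟩
  choose Y g σ U hσ hopen hmem hcomp using hloc
  obtain ⟨s, hs⟩ := isCompact_univ.elim_finite_subcover (fun x => g x '' (U x : Set (Y x))) hopen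
    (fun x _ => Set.mem_iUnion.2 ⟨x, hmem x⟩)
  have hfin : ∀ x, (idx w '' (σ x '' (U x : Set (Y x)))).Finite := fun x => by
    rw [Set.image_image]
    have hc : IsLocallyConstant (fun y => idx w (σ x y)) := (isLocallyConstant_idx w).comp_continuous (σ x).continuous
    haveI : CompactSpace (U x : Set (Y x)) := isCompact_iff_compactSpace.1 (hcomp x)
    have := (hc.comp_continuous (continuous_subtype_val (p := (· ∈ (U x : Set (Y x)))))).range_finite
    rw [Set.range_comp, Subtype.range_coe_subtype] at this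
    exact this
  refine (s.finite_toSet.biUnion fun x _ => hfin x).subset ?_
  rintro _ ⟨p, rfl⟩
  obtain ⟨x, hxs, hpx⟩ := Set.mem_iUnion₂.1 (hs (Set.mem_univ (v.left p)))
  obtain ⟨y, hyU, hy⟩ := hpx
  refine Set.mem_biUnion hxs ⟨σ x y, ⟨y, hyU, rfl⟩, ?_⟩
  obtain ⟨r, hr1, hr2⟩ := Scheme.Pullback.exists_preimage_pullback (f := v.left) (g := g x) p y hy.symm
  let T : Over S := Over.mk (pullback.fst v.left (g x) ≫ E.hom)
  let a : T ⟶ E := Over.homMk (pullback.fst v.left (g x))
  have hb : (pullback.snd v.left (g x) ≫ σ x) ≫ v.left = pullback.fst v.left (g x) ≫ v.left := by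
    rw [Category.assoc, hσ, pullback.condition]
  let b : T ⟶ E := Over.homMk (pullback.snd v.left (g x) ≫ σ x) (by
    show (pullback.snd v.left (g x) ≫ σ x) ≫ E.hom = pullback.fst v.left (g x) ≫ E.hom
    rw [← Over.w v, ← Category.assoc, ← Category.assoc, hb])
  have hab : a ≫ w = b ≫ w := hw T a b (Over.OverMorphism.ext hb.symm)
  have h1 : idx (a ≫ w) r = idx w p := by rw [idx_comp]; exact congrArg _ hr1
  have h2 : idx (b ≫ w) r = idx w (σ x y) := by
    rw [idx_comp]
    exact congrArg _ ((Scheme.Hom.comp_apply (pullback.snd v.left (g x)) (σ x) r).trans (congrArg _ hr2))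
  rw [← h2, ← hab, h1]

end Groth.Agent.H28Const
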