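import Groth.Agent.H28Const.Index
import Groth.Agent.H19Grp.Neutral
import Groth.Agent.H19Grp.AffineQuotient
import Mathlib

/-!
# Extensions of connected groups by constant torsion-free groups over a field
-/

set_option autoImplicit false
set_option linter.style.haveILetI false
set_option backward.isDefEq.respectTransparency.types false
set_option maxHeartbeats 800000

universe u

open CategoryTheory CategoryTheory.Limits MonoidalCategory CartesianMonoidalCategory MonObj AlgebraicGeometry

namespace Groth.Agent.H28Const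

variable {k : Type u} [Field k] {M : Type u} [Group M]

local notation "Sk" => Spec (CommRingCat.of k)

variable {P E G : Over (Spec (CommRingCat.of k))} [GrpObj P] [GrpObj E] [GrpObj G] {e : G ≅ TwC.const (Spec (CommRingCat.of k)) M}
  {u : G ⟶ E} {v : E ⟶ P}

theorem etale_const (e : G ≅ TwC.const (Spec (CommRingCat.of k)) M) : Etale G.hom := by
  haveI : Etale (TwC.const Sk M).hom :=
    IsZariskiLocalAtSource.sigmaDesc (P := @Etale) fun _ => inferInstanceAs (Etale (𝟙 Sk))
  rw [← Over.w e.hom]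
  infer_instance

theorem isPullback_trivialise (hex : NonAbH1.IsExactSeq Scheme.fppfPrecoverage u v) {T : Over (Spec (CommRingCat.of k))}
    (σ : T ⟶ E) : IsPullback ((fst T G ≫ σ) * (snd T G ≫ u)) (fst T G) v (σ ≫ v) := by
  haveI hu : IsMonHom u := hex.1
  haveI hv : IsMonHom v := hex.2.1
  have hkill : ∀ {W : Over Sk} (g : W ⟶ G), (g ≫ u) ≫ v = 1 := fun g => by
    rw [Category.assoc, hex.2.2.1, MonObj.comp_one]
  refine IsPullback.of_isLimit' ⟨by rw [MonObj.mul_comp, hkill, _root_.mul_one, Category.assoc]⟩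
    (PullbackCone.IsLimit.mk _ (fun s => lift s.snd
      (H28SGA7.exists_unique_mul hex (s.snd ≫ σ) s.fst (by rw [Category.assoc, ← s.condition])).choose)
      (fun s => ?_) (fun s => lift_fst _ _) fun s m h1 h2 => ?_)
  · rw [MonObj.comp_mul, lift_fst_assoc, lift_snd_assoc]
    exact (H28SGA7.exists_unique_mul hex (s.snd ≫ σ) s.fst (by rw [Category.assoc, ← s.condition])).choose_spec.1
  · refine CartesianMonoidalCategory.hom_ext _ _ ?_ ?_
    · rw [lift_fst, h2]
    · rw [lift_snd]
      refine (H28SGA7.exists_unique_mul hex (s.snd ≫ σ) s.fst (by rw [Category.assoc, ← s.condition])).choose_spec.2 _ ?_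
      show (s.snd ≫ σ) * (m ≫ snd T G) ≫ u = s.fst
      rw [← h1, MonObj.comp_mul, ← Category.assoc m (fst T G), h2, Category.assoc]

theorem etale_of_exact (hex : NonAbH1.IsExactSeq Scheme.fppfPrecoverage u v)
    (e : G ≅ TwC.const (Spec (CommRingCat.of k)) M) : Etale v.left := by
  obtain ⟨-, -, -, -, R, hR, hsec⟩ := id hex
  haveI := etale_const e
  haveI : IsSeparated P.hom := H19Grp.AffineQuotient.isSeparated_of_grp P
  refine IsZariskiLocalAtTarget.of_forall_exists_morphismRestrict (P := @Etale) fun x => ?_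
  obtain ⟨Y', g', hg', hx⟩ := hR.1 x
  obtain ⟨hg⟩ := hg'
  rename_i W g
  obtain ⟨y, hy⟩ := hx
  obtain ⟨σ, hσ⟩ := hsec g hg
  haveI : Flat g := (hR.2 hg).1
  haveI : LocallyOfFinitePresentation g := (hR.2 hg).2
  obtain ⟨U, hU, hyU, -⟩ := exists_isAffineOpen_mem_and_subset (X := _) (x := y) (U := ⊤) trivial
  haveI : IsAffine (U : Scheme.{u}) := hU
  let f0 : (U : Scheme.{u}) ⟶ P.left := U.ι ≫ g
  let V : P.left.Opens := ⟨Set.range f0, f0.isOpenMap.isOpen_range⟩
  let U' := f0 ⁻¹ᵁ V
  have hU' : U' = ⊤ := TopologicalSpace.Opens.ext (Set.eq_univ_of_forall fun z => ⟨z, rfl⟩)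
  haveI : CompactSpace (U' : Scheme.{u}) := by
    refine isCompact_iff_compactSpace.1 ?_
    rw [hU']
    exact isCompact_univ
  haveI : IsSeparated (V.ι ≫ P.hom) := inferInstance
  haveI : V.toScheme.IsSeparated := ⟨by rw [← terminal.comp_from (V.ι ≫ P.hom)]; infer_instance⟩
  haveI : QuasiCompact (f0 ∣_ V) := quasiCompact_of_compactSpace (f0 ∣_ V)
  haveI : Surjective (f0 ∣_ V) := ⟨fun ⟨p, z, hz⟩ =>
    ⟨⟨z, ⟨z, rfl⟩⟩, Subtype.ext ((morphismRestrict_base_coe f0 V _).trans hz)⟩⟩
  haveI : Flat (f0 ∣_ V) := IsZariskiLocalAtTarget.restrict (P := @Flat) inferInstance V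
  have hσ' : σ ≫ v.left = g := hσ
  let T : Over Sk := Over.mk ((U'.ι ≫ f0) ≫ P.hom)
  let τ : T ⟶ E := Over.homMk (U'.ι ≫ U.ι ≫ σ) (by
    show (U'.ι ≫ U.ι ≫ σ) ≫ E.hom = (U'.ι ≫ U.ι ≫ g) ≫ P.hom
    rw [← Over.w v, ← hσ']
    simp only [Category.assoc])
  have sq := (isPullback_trivialise hex τ).map (Over.forget Sk)
  simp only [Over.forget_map, Over.comp_left] at sq
  have hτ : τ.left ≫ v.left = f0 ∣_ V ≫ V.ι := by
    show (U'.ι ≫ U.ι ≫ σ) ≫ v.left = _
    rw [morphismRestrict_ι]
    show _ = U'.ι ≫ U.ι ≫ g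
    rw [← hσ']
    simp only [Category.assoc]
  rw [hτ] at sq
  have hr := (isPullback_morphismRestrict v.left V).flip
  let l := hr.lift ((fst T G ≫ τ) * (snd T G ≫ u)).left ((fst T G).left ≫ f0 ∣_ V) (by
    rw [Category.assoc]; exact sq.w)
  have sq2 : IsPullback l (fst T G).left (v.left ∣_ V) (f0 ∣_ V) :=
    IsPullback.of_right (by rw [hr.lift_fst]; exact sq) (hr.lift_snd _ _ _) hr
  haveI : Etale (fst T G).left := MorphismProperty.pullback_fst (P := @Etale) _ _ ‹Etale G.hom›
  exact ⟨V, ⟨⟨y, hyU⟩, hy⟩, MorphismProperty.of_isPullback_of_descendsAlong (P := @Etale)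
    (Q := @Surjective ⊓ @Flat ⊓ @QuasiCompact) sq2.flip ⟨⟨‹_›, ‹_›⟩, ‹_›⟩ ‹_›⟩

theorem idx_hom (hG : TwC.IsConstGrp M G e) {A : Over (Spec (CommRingCat.of k))} (g : A ⟶ G) (a : A.left) :
    ∃ (T : Over (Spec (CommRingCat.of k))) (f : T ⟶ A) (r : T.left),
      f.left r = a ∧ f ≫ g = toUnit T ≫ TwC.pt Sk M (idx (g ≫ e.hom) a) ≫ e.inv := by
  obtain ⟨T, f, r, rfl, hss⟩ := exists_pointOver a
  refine ⟨T, f, r, rfl, ?_⟩
  rw [← idx_comp, ← Category.assoc (toUnit T), ← eq_pt (f ≫ g ≫ e.hom) _
    (fun s => by rw [Subsingleton.elim s r]), Category.assoc, Category.assoc, e.hom_inv_id, Category.comp_id]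

/-- Right translation by a point of the kernel. -/
noncomputable def trans (e : G ≅ TwC.const (Spec (CommRingCat.of k)) M) (u : G ⟶ E) (m : M) : E ⟶ E :=
  𝟙 E * (toUnit E ≫ TwC.pt Sk M m ≫ e.inv ≫ u)

theorem trans_comp [IsMonHom u] (hG : TwC.IsConstGrp M G e) (m n : M) :
    trans e u m ≫ trans e u n = trans e u (m * n) := by
  simp only [trans, MonObj.comp_mul, Category.comp_id]
  rw [← Category.assoc _ (toUnit E), Subsingleton.elim ((𝟙 E * _) ≫ toUnit E) (toUnit E), _root_.mul_assoc,
    ← MonObj.comp_mul, ← Category.assoc (TwC.pt Sk M m), ← Category.assoc (TwC.pt Sk M n), ← MonObj.mul_comp,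
    hG, Category.assoc]

theorem trans_one [IsMonHom u] (hG : TwC.IsConstGrp M G e) : trans e u (1 : M) = 𝟙 E := by
  rw [trans, ← Category.assoc (TwC.pt Sk M 1), pt_one hG, MonObj.one_comp, MonObj.comp_one, _root_.mul_one]

/-- Every point of an extension of a connected group is a translate of a point of the component of the unit. -/
theorem exists_trans_component (hex : NonAbH1.IsExactSeq Scheme.fppfPrecoverage u v)
    (hG : TwC.IsConstGrp M G e) [ConnectedSpace P.left] (x : E.left) :
    ∃ (m : M) (c : E.left), c ∈ connectedComponent (H19Grp.ept E) ∧ (trans e u m).left c = x := by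
  haveI := etale_of_exact hex e
  haveI hu : IsMonHom u := hex.1
  haveI : IrreducibleSpace P.left := H19Grp.irreducibleSpace_of_connected (H19Grp.grpToGrpd P) (Iso.refl _)
  have hd := H19Grp.dirGen (H19Grp.grpToGrpd E) (Iso.refl _)
  have hmax : ∀ y : E.left, v.left (H19Grp.zeta y) = genericPoint P.left := by
    intro y
    obtain ⟨z, hz, hzξ⟩ := (Flat.generalizingMap v.left) (genericPoint_specializes (v.left (H19Grp.zeta y)))
    have : z = H19Grp.zeta y := H19Grp.eq_zeta_of_specializes hd hz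
    rw [← this, hzξ]
  obtain ⟨r, hr1, hr2⟩ := Scheme.Pullback.exists_preimage_pullback (f := v.left) (g := v.left)
    (H19Grp.zeta (H19Grp.ept E)) (H19Grp.zeta x) ((hmax _).trans (hmax _).symm)
  let T : Over Sk := Over.mk (pullback.fst v.left v.left ≫ E.hom)
  let a : T ⟶ E := Over.homMk (pullback.fst v.left v.left)
  let b : T ⟶ E := Over.homMk (pullback.snd v.left v.left) (by
    show pullback.snd v.left v.left ≫ E.hom = pullback.fst v.left v.left ≫ E.hom
    rw [← Over.w v, ← Category.assoc, ← Category.assoc, pullback.condition])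
  obtain ⟨g, hg, -⟩ := H28SGA7.exists_unique_mul hex a b (Over.OverMorphism.ext pullback.condition)
  obtain ⟨T', f, r', hf, hfg⟩ := idx_hom hG g r
  set m := idx (g ≫ e.hom) r
  have key : f ≫ b = f ≫ a ≫ trans e u m := by
    rw [← hg, MonObj.comp_mul, trans, MonObj.comp_mul, Category.comp_id, MonObj.comp_mul, ← Category.assoc f g, hfg,
      ← Category.assoc a, Subsingleton.elim (a ≫ toUnit E) (toUnit T), ← Category.assoc f,
      Subsingleton.elim (f ≫ toUnit T) (toUnit T'), Category.assoc, Category.assoc]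
  have hpt : (trans e u m).left (H19Grp.zeta (H19Grp.ept E)) = H19Grp.zeta x := by
    have h1 : (f ≫ b).left r' = (f ≫ a ≫ trans e u m).left r' := by rw [key]
    rw [Over.comp_left, Over.comp_left, Over.comp_left, Scheme.Hom.comp_apply, Scheme.Hom.comp_apply,
      Scheme.Hom.comp_apply, hf] at h1
    change pullback.snd v.left v.left r = (trans e u m).left (pullback.fst v.left v.left r) at h1
    rw [hr1, hr2] at h1
    exact h1.symm
  refine ⟨m, (trans e u m⁻¹).left x, ?_, ?_⟩
  · have hinv : (trans e u m⁻¹).left (H19Grp.zeta x) = H19Grp.zeta (H19Grp.ept E) := by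
      rw [← hpt, ← Scheme.Hom.comp_apply, ← Over.comp_left, trans_comp hG, mul_inv_cancel, trans_one hG]
      rfl
    have h2 : H19Grp.zeta (H19Grp.ept E) ∈ connectedComponent (H19Grp.ept E) :=
      isIrreducible_irreducibleComponent.isConnected.subset_connectedComponent mem_irreducibleComponent
        (H19Grp.isGenericPoint_zeta (H19Grp.ept E)).mem
    refine ((H19Grp.zeta_specializes x).map (trans e u m⁻¹).left.continuous).mem_closed
      isClosed_connectedComponent ?_
    rw [hinv]
    exact h2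
  · rw [← Scheme.Hom.comp_apply, ← Over.comp_left, trans_comp hG, inv_mul_cancel, trans_one hG]
    rfl

end Groth.Agent.H28Const
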