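import Groth.Agent.H28Const.Index
import Groth.Agent.H06SecComp.ModelApps
import Groth.Agent.S15351
import Mathlib

/-!
# Torsors under constant groups
-/

set_option autoImplicit false
set_option linter.style.haveILetI false
set_option backward.isDefEq.respectTransparency.types false
set_option maxHeartbeats 800000

universe u

open CategoryTheory CategoryTheory.Limits MonoidalCategory CartesianMonoidalCategory MonObj AlgebraicGeometry

namespace Groth.Agent.H28Const

variable {P : Scheme.{u}} {M : Type u} {G X : Over P} [GrpObj G] (a : AlgGrp.Action G X)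

theorem smul_one {T : Over P} (x : T ⟶ X) : lift (1 : T ⟶ G) x ≫ a.act = x := by
  have : lift (1 : T ⟶ G) x = lift (toUnit T) x ≫ (η[G] ▷ X) := by
    rw [lift_whiskerRight, Hom.one_def]
  rw [this, Category.assoc, a.one_act, lift_leftUnitor_hom]

theorem smul_smul {T : Over P} (g h : T ⟶ G) (x : T ⟶ X) :
    lift g (lift h x ≫ a.act) ≫ a.act = lift (g * h) x ≫ a.act := by
  have : lift (g * h) x = lift (lift g h) x ≫ (μ[G] ▷ X) := by rw [lift_whiskerRight, Hom.mul_def]
  rw [this, Category.assoc, a.mul_act, lift_lift_associator_hom_assoc, lift_whiskerLeft_assoc]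

theorem existsUnique_smul (ha : NonAbH1.IsPseudoTorsorSch a) {T : Over P} (x y : T ⟶ X) :
    ∃! g : T ⟶ G, lift g x ≫ a.act = y := by
  haveI : IsIso (lift a.act (snd G X)) := ha
  let z := lift y x ≫ inv (lift a.act (snd G X))
  have hz : z ≫ lift a.act (snd G X) = lift y x := by
    rw [Category.assoc, IsIso.inv_hom_id, Category.comp_id]
  have h1 : z ≫ a.act = y := by
    have h := congrArg (· ≫ fst X X) hz
    simp only [Category.assoc, lift_fst] at h
    exact h
  have h2 : z ≫ snd G X = x := by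
    have h := congrArg (· ≫ snd X X) hz
    simp only [Category.assoc, lift_snd] at h
    exact h
  refine ⟨z ≫ fst G X, ?_, fun g hg => ?_⟩
  · show lift (z ≫ fst G X) x ≫ a.act = y
    rw [← h2, ← comp_lift, lift_fst_snd, Category.comp_id, h1]
  · have : lift g x = z := by
      rw [← cancel_mono (lift a.act (snd G X)), hz, comp_lift, hg, lift_snd]
    rw [← this, lift_fst]

theorem isPullback_torsor (ha : NonAbH1.IsPseudoTorsorSch a) {T : Over P} (σ : T ⟶ X) :
    IsPullback (lift (snd T G) (fst T G ≫ σ) ≫ a.act).left (fst T G).left X.hom T.hom := by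
  have sq : IsPullback (lift (snd T G) (fst T G ≫ σ) ≫ a.act) (fst T G) (toUnit X) (toUnit T) := by
    refine IsPullback.of_isLimit' ⟨Subsingleton.elim _ _⟩ (PullbackCone.IsLimit.mk _ (fun s =>
      lift s.snd (existsUnique_smul a ha (s.snd ≫ σ) s.fst).choose)
      (fun s => ?_) (fun s => lift_fst _ _) fun s m h1 h2 => ?_)
    · rw [← Category.assoc, comp_lift, lift_snd, lift_fst_assoc]
      exact (existsUnique_smul a ha (s.snd ≫ σ) s.fst).choose_spec.1
    · refine CartesianMonoidalCategory.hom_ext _ _ ?_ ?_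
      · rw [lift_fst, h2]
      · rw [lift_snd]
        refine (existsUnique_smul a ha (s.snd ≫ σ) s.fst).choose_spec.2 _ ?_
        show lift (m ≫ snd T G) (s.snd ≫ σ) ≫ a.act = s.fst
        rw [← h1, ← Category.assoc m (lift _ _), comp_lift, ← Category.assoc m (fst T G), h2]
  exact sq.map (Over.forget P)

theorem etale_torsor (e : G ≅ TwC.const P M) {a : AlgGrp.Action G X}
    (ha : NonAbH1.IsTorsorFor Scheme.fppfPrecoverage a) : Etale X.hom := by
  obtain ⟨hps, R, hR, hsec⟩ := ha
  haveI : Etale G.hom := by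
    haveI : Etale (TwC.const P M).hom :=
      IsZariskiLocalAtSource.sigmaDesc (P := @Etale) fun _ => inferInstanceAs (Etale (𝟙 P))
    rw [← Over.w e.hom]
    infer_instance
  refine IsZariskiLocalAtTarget.of_forall_exists_morphismRestrict (P := @Etale) fun x => ?_
  obtain ⟨V₀, hV₀, hxV₀, -⟩ := exists_isAffineOpen_mem_and_subset (X := P) (x := x) (U := ⊤) trivial
  obtain ⟨Y', g', hg', hx⟩ := hR.1 x
  obtain ⟨hg⟩ := hg'
  rename_i W g
  obtain ⟨y, hy⟩ := hx
  obtain ⟨σ, hσ⟩ := hsec g hg
  haveI : Flat g := (hR.2 hg).1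
  haveI : LocallyOfFinitePresentation g := (hR.2 hg).2
  obtain ⟨U, hU, hyU, hUV⟩ := exists_isAffineOpen_mem_and_subset (X := _) (x := y) (U := g ⁻¹ᵁ V₀)
    (show g y ∈ V₀ from hy ▸ hxV₀)
  haveI : IsAffine (U : Scheme.{u}) := hU
  let f0 : (U : Scheme.{u}) ⟶ P := U.ι ≫ g
  let V : P.Opens := ⟨Set.range f0, f0.isOpenMap.isOpen_range⟩
  have hVV₀ : V ≤ V₀ := by
    rintro _ ⟨z, rfl⟩
    exact hUV z.2
  let U' := f0 ⁻¹ᵁ V
  have hU' : U' = ⊤ := TopologicalSpace.Opens.ext (Set.eq_univ_of_forall fun z => ⟨z, rfl⟩)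
  haveI : CompactSpace (U' : Scheme.{u}) := by
    refine isCompact_iff_compactSpace.1 ?_
    rw [hU']
    exact isCompact_univ
  haveI : IsAffine (V₀ : Scheme.{u}) := hV₀
  haveI : V.toScheme.IsSeparated := ⟨by rw [← terminal.comp_from (P.homOfLE hVV₀)]; infer_instance⟩
  haveI : QuasiCompact (f0 ∣_ V) := quasiCompact_of_compactSpace (f0 ∣_ V)
  haveI : Surjective (f0 ∣_ V) := ⟨fun ⟨p, z, hz⟩ =>
    ⟨⟨z, ⟨z, rfl⟩⟩, Subtype.ext ((morphismRestrict_base_coe f0 V _).trans hz)⟩⟩
  haveI : Flat (f0 ∣_ V) := IsZariskiLocalAtTarget.restrict (P := @Flat) inferInstance V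
  let T : Over P := Over.mk (f0 ∣_ V ≫ V.ι)
  let τ : T ⟶ X := Over.homMk (U'.ι ≫ U.ι ≫ σ) (by
    show (U'.ι ≫ U.ι ≫ σ) ≫ X.hom = f0 ∣_ V ≫ V.ι
    rw [morphismRestrict_ι]
    simp only [Category.assoc, hσ]
    rfl)
  have sq : IsPullback (lift (snd T G) (fst T G ≫ τ) ≫ a.act).left (fst T G).left X.hom (f0 ∣_ V ≫ V.ι) :=
    isPullback_torsor a hps τ
  have hr := (isPullback_morphismRestrict X.hom V).flip
  let l := hr.lift (lift (snd T G) (fst T G ≫ τ) ≫ a.act).left ((fst T G).left ≫ f0 ∣_ V) (by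
    rw [Category.assoc]; exact sq.w)
  have sq2 : IsPullback l (fst T G).left (X.hom ∣_ V) (f0 ∣_ V) :=
    IsPullback.of_right (by rw [hr.lift_fst]; exact sq) (hr.lift_snd _ _ _) hr
  haveI : Etale (fst T G).left := MorphismProperty.pullback_fst (P := @Etale) _ _ ‹Etale G.hom›
  exact ⟨V, ⟨⟨y, hyU⟩, hy⟩, MorphismProperty.of_isPullback_of_descendsAlong (P := @Etale)
    (Q := @Surjective ⊓ @Flat ⊓ @QuasiCompact) sq2.flip ⟨⟨‹_›, ‹_›⟩, ‹_›⟩ ‹_›⟩

variable [Group M]

theorem isSeparated_torsor {e : G ≅ TwC.const P M} (hG : TwC.IsConstGrp M G e) {a : AlgGrp.Action G X}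
    (ha : NonAbH1.IsPseudoTorsorSch a) : IsSeparated X.hom := by
  let s : X ⟶ G ⊗ X := lift 1 (𝟙 X)
  let Φ : G ⊗ X ⟶ X ⊗ X := lift a.act (snd G X)
  haveI : IsIso Φ := ha
  haveI : IsIso Φ.left := inferInstanceAs (IsIso ((Over.forget P).map Φ))
  have hdiag : s ≫ Φ = lift (𝟙 X) (𝟙 X) := by
    rw [comp_lift, lift_snd, smul_one a (𝟙 X)]
  haveI : Etale G.hom := by
    haveI : Etale (TwC.const P M).hom :=
      IsZariskiLocalAtSource.sigmaDesc (P := @Etale) fun _ => inferInstanceAs (Etale (𝟙 P))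
    rw [← Over.w e.hom]
    infer_instance
  haveI : Etale (snd G X).left := MorphismProperty.pullback_snd (P := @Etale) _ _ ‹Etale G.hom›
  have hsec : s.left ≫ (snd G X).left = 𝟙 _ := by rw [← Over.comp_left, lift_snd]; rfl
  haveI : IsOpenImmersion s.left := by
    haveI : IsOpenImmersion (s.left ≫ (snd G X).left) := by rw [hsec]; infer_instance
    haveI : Etale (s.left ≫ (snd G X).left) := inferInstance
    haveI : Etale s.left := Etale.of_comp s.left (snd G X).left
    haveI : Mono (s.left ≫ (snd G X).left) := by rw [hsec]; infer_instance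
    haveI : Mono s.left := mono_of_mono s.left (snd G X).left
    exact IsOpenImmersion.of_flat_of_mono s.left
  have hrange : Set.range s.left = {z | idx (fst G X ≫ e.hom) z = 1} := by
    refine Set.Subset.antisymm ?_ fun z hz => ?_
    · rintro _ ⟨x, rfl⟩
      show idx _ _ = 1
      rw [← idx_comp, ← Category.assoc, lift_fst]
      exact idx_one hG x
    · obtain ⟨T, f, r, rfl, hss⟩ := exists_pointOver z
      have h1 : f ≫ fst G X = 1 := eq_one_of_idx hG _ fun t => by
        rw [Subsingleton.elim t r, Category.assoc, idx_comp]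
        exact hz
      have h2 : f = (f ≫ snd G X) ≫ s := CartesianMonoidalCategory.hom_ext _ _
        (by rw [Category.assoc, lift_fst, MonObj.comp_one, h1])
        (by rw [Category.assoc, lift_snd, Category.comp_id])
      exact ⟨(f ≫ snd G X).left r, by rw [← Scheme.Hom.comp_apply, ← Over.comp_left, ← h2]⟩
  haveI : IsClosedImmersion s.left := IsClosedImmersion.of_isPreimmersion _ (by
    rw [hrange]
    exact (isLocallyConstant_idx (fst G X ≫ e.hom)).isClosed_fiber 1)
  refine ⟨?_⟩
  rw [show pullback.diagonal X.hom = (lift (𝟙 X) (𝟙 X)).left from rfl, ← hdiag, Over.comp_left]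
  infer_instance

/-- The translation of a torsor under a constant group by an index. -/
noncomputable def tau (e : G ≅ TwC.const P M) (a : AlgGrp.Action G X) (m : M) : X ⟶ X :=
  lift (toUnit X ≫ TwC.pt P M m ≫ e.inv) (𝟙 X) ≫ a.act

theorem smul_pt (e : G ≅ TwC.const P M) {T : Over P} (m : M) (x : T ⟶ X) :
    lift (toUnit T ≫ TwC.pt P M m ≫ e.inv) x ≫ a.act = x ≫ tau e a m := by
  rw [tau, ← Category.assoc x (lift _ _), comp_lift, Category.comp_id, ← Category.assoc x,
    Subsingleton.elim (x ≫ toUnit X) (toUnit T)]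

theorem exists_point_smul {e : G ≅ TwC.const P M} (hG : TwC.IsConstGrp M G e)
    (ha : NonAbH1.IsPseudoTorsorSch a) {T : Over P} [Subsingleton T.left] (t : T.left) (x y : T ⟶ X) :
    ∃ m : M, x ≫ tau e a m = y := by
  obtain ⟨g, hg, -⟩ := existsUnique_smul a ha x y
  refine ⟨idx (g ≫ e.hom) t, ?_⟩
  rw [← smul_pt a e, ← Category.assoc (toUnit T), ← eq_pt (g ≫ e.hom) _
    (fun s => by rw [Subsingleton.elim s t]), Category.assoc, e.hom_inv_id, Category.comp_id, hg]

/-- Two sections which agree along a section of a family with connected fibres are equal. -/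
theorem section_unique {e : G ≅ TwC.const P M} (hG : TwC.IsConstGrp M G e) (ha : NonAbH1.IsPseudoTorsorSch a)
    {S : Scheme.{u}} (p : P ⟶ S) [GeometricallyConnected p] (i : S ⟶ P) (hi : i ≫ p = 𝟙 S)
    (g g' : 𝟙_ (Over P) ⟶ X) (h : i ≫ g.left = i ≫ g'.left) : g = g' := by
  obtain ⟨d, hd, -⟩ := existsUnique_smul a ha g g'
  suffices d = 1 by rw [← hd, this, smul_one]
  refine eq_one_of_idx hG d fun (x : P) => ?_
  have hpre : _root_.IsPreconnected (p ⁻¹' {p x}) := by
    rw [← p.range_fiberι]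
    exact isPreconnected_range (p.fiberι (p x)).continuous
  rw [(isLocallyConstant_idx (d ≫ e.hom)).apply_eq_of_isPreconnected hpre (Set.mem_singleton (p x))
    (show i (p x) ∈ p ⁻¹' {p x} from by
      show p (i (p x)) = p x
      rw [← Scheme.Hom.comp_apply, hi]; rfl)]
  let T : Over P := Over.mk i
  let j : T ⟶ 𝟙_ (Over P) := Over.homMk i (Category.comp_id _)
  have hj : j ≫ g = j ≫ g' := Over.OverMorphism.ext h
  have hd1 : j ≫ d = 1 := (existsUnique_smul a ha (j ≫ g) (j ≫ g)).unique
    (by rw [← comp_lift_assoc, hd, hj]) (smul_one a _)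
  show idx (d ≫ e.hom) (j.left (p x)) = 1
  rw [← idx_comp, ← Category.assoc, hd1]
  exact idx_one hG _

/-- A torsor trivial on every fibre is trivial, with a section through a given lift of a section. -/
theorem exists_section {e : G ≅ TwC.const P M} (hG : TwC.IsConstGrp M G e)
    (ha : NonAbH1.IsTorsorFor Scheme.fppfPrecoverage a)
    {S : Scheme.{u}} (p : P ⟶ S) [Smooth p] [QuasiSeparated p] [GeometricallyConnected p]
    (i : S ⟶ P) (hi : i ≫ p = 𝟙 S) (i' : S ⟶ X.left) (hi' : i' ≫ X.hom = i)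
    (hfib : ∀ s : S, NonAbH1.HasSectionOver X (pullback.fst p (S.fromSpecResidueField s))) :
    ∃ g : P ⟶ X.left, g ≫ X.hom = 𝟙 P ∧ i ≫ g = i' := by
  haveI := etale_torsor e ha
  haveI := isSeparated_torsor hG ha.1
  let q := X.hom ≫ p
  have hq : i' ≫ q = 𝟙 S := by rw [← Category.assoc, hi', hi]
  let W := MoreMor.sectionComponents q i'
  -- openness
  have hWopen : IsOpen W := by
    rw [isOpen_iff_mem_nhds]
    intro x hx
    obtain ⟨V, hV, hxV, -⟩ := exists_isAffineOpen_mem_and_subset (X := S) (x := q x) (U := ⊤) trivial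
    have le2 : V ≤ i' ⁻¹ᵁ (q ⁻¹ᵁ V) := fun v hv =>
      show q (i' v) ∈ V by rw [H06EGA15.f_g_apply q i' hq v]; exact hv
    let e₁ := i'.resLE (q ⁻¹ᵁ V) V le2
    have hP : IsPullback (q ⁻¹ᵁ V).ι (q ∣_ V) q V.ι := (isPullback_morphismRestrict q V).flip
    have he₁ : e₁ ≫ (q ∣_ V) = 𝟙 _ := by
      rw [← cancel_mono V.ι]
      simp [e₁, Scheme.Hom.resLE_comp_ι, Scheme.Hom.resLE_comp_ι_assoc, hq]
    haveI : IsAffine V.toScheme := hV
    haveI : QuasiSeparated (q ∣_ V) := IsZariskiLocalAtTarget.restrict (P := @QuasiSeparated) inferInstance V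
    haveI : QuasiSeparatedSpace (q ⁻¹ᵁ V).toScheme :=
      (quasiSeparated_iff_quasiSeparatedSpace (q ∣_ V)).mp inferInstance
    have hmem := H06SecComp.mem_component_iff_of_model hP he₁ hq (Scheme.Hom.resLE_comp_ι _ _)
    obtain ⟨x', rfl⟩ := (q ⁻¹ᵁ V).range_ι.ge hxV
    refine Filter.mem_of_superset (((q ⁻¹ᵁ V).ι.isOpenEmbedding.isOpenMap _
      (S15351.result (q ∣_ V) e₁ he₁)).mem_nhds ⟨x', (hmem x').mpr hx, rfl⟩) ?_
    rintro _ ⟨b, hb, rfl⟩
    exact (hmem b).mp hb
  -- the fibres
  have hstruct : ∀ s : S, ∃ (T : Over P) (c : T ⟶ X), T.left = pullback p (S.fromSpecResidueField s) ∧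
      connectedComponentIn (q ⁻¹' {s}) (i' s) = Set.range c.left ∧
      Set.range T.hom = p ⁻¹' {s} ∧
      Mono T.hom ∧ ∀ (T' : Over P) (x : T' ⟶ X) (b : T'.left ⟶ Spec (S.residueField s)),
        b ≫ S.fromSpecResidueField s = T'.hom ≫ p → Set.range x.left ⊆ Set.range c.left →
          ∃ l : T' ⟶ T, x = l ≫ c := by
    intro s
    let π := pullback.fst p (S.fromSpecResidueField s)
    haveI : IsPreimmersion π := MorphismProperty.pullback_fst (P := @IsPreimmersion) _ _ inferInstance
    haveI : ConnectedSpace ↥(pullback p (S.fromSpecResidueField s)) :=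
      inferInstanceAs (ConnectedSpace (p.fiber s))
    have hπr : Set.range π = p ⁻¹' {s} := by
      rw [Scheme.Pullback.range_fst, Scheme.range_fromSpecResidueField]
    let T : Over P := Over.mk π
    obtain ⟨gam, hgam⟩ := hfib s
    let c₀ : T ⟶ X := Over.homMk gam hgam
    let T₀ : Over P := Over.mk (S.fromSpecResidueField s ≫ i)
    haveI : Subsingleton T₀.left := inferInstanceAs (Subsingleton (Spec (S.residueField s)))
    let pt₀ : T₀.left := (default : Spec (S.residueField s))
    let l₀ : T₀ ⟶ T := Over.homMk (pullback.lift (S.fromSpecResidueField s ≫ i) (𝟙 _)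
      (by rw [Category.assoc, hi, Category.comp_id, Category.id_comp])) (pullback.lift_fst _ _ _)
    let a₀ : T₀ ⟶ X := Over.homMk (S.fromSpecResidueField s ≫ i') (by
      show (S.fromSpecResidueField s ≫ i') ≫ X.hom = S.fromSpecResidueField s ≫ i
      rw [Category.assoc, hi'])
    obtain ⟨m, hm⟩ := exists_point_smul a hG ha.1 pt₀ (l₀ ≫ c₀) a₀
    let c : T ⟶ X := c₀ ≫ tau e a m
    have hc : l₀ ≫ c = a₀ := by rw [← hm, Category.assoc]
    have hpt : i' s ∈ Set.range c.left := ⟨l₀.left pt₀, by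
      rw [← Scheme.Hom.comp_apply, ← Over.comp_left, hc]
      show (S.fromSpecResidueField s ≫ i') pt₀ = i' s
      rw [Scheme.Hom.comp_apply, Scheme.fromSpecResidueField_apply]⟩
    have hcw : c.left ≫ X.hom = π := Over.w c
    let gc : pullback p (S.fromSpecResidueField s) ⟶ pullback X.hom π := pullback.lift c.left (𝟙 _)
      (by rw [hcw, Category.id_comp])
    have hgcs : gc ≫ pullback.snd X.hom π = 𝟙 _ := pullback.lift_snd _ _ _
    have hgcf : gc ≫ pullback.fst X.hom π = c.left := pullback.lift_fst _ _ _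
    haveI : IsOpenImmersion gc := by
      haveI : IsOpenImmersion (gc ≫ pullback.snd X.hom π) := by rw [hgcs]; infer_instance
      haveI : Etale (pullback.snd X.hom π) := MorphismProperty.pullback_snd (P := @Etale) _ _ inferInstance
      haveI : Etale (gc ≫ pullback.snd X.hom π) := inferInstance
      haveI : Etale gc := Etale.of_comp gc (pullback.snd X.hom π)
      haveI : Mono gc := mono_of_mono gc (pullback.snd X.hom π)
      exact IsOpenImmersion.of_flat_of_mono gc
    haveI : IsClosedImmersion gc := by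
      haveI : IsClosedImmersion (gc ≫ pullback.snd X.hom π) := by rw [hgcs]; infer_instance
      exact IsClosedImmersion.of_comp gc (pullback.snd X.hom π)
    haveI : IsPreimmersion (pullback.fst X.hom π) := MorphismProperty.pullback_fst (P := @IsPreimmersion) _ _ inferInstance
    have hXr : Set.range (pullback.fst X.hom π) = q ⁻¹' {s} := by
      rw [Scheme.Pullback.range_fst, hπr]
      ext z
      simp [q]
    have hcr : Set.range c.left = pullback.fst X.hom π '' Set.range gc := by
      rw [← hgcf, ← Set.range_comp]; rfl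
    have hsub : Set.range c.left ⊆ q ⁻¹' {s} := by
      rw [hcr, ← hXr]; exact Set.image_subset_range _ _
    refine ⟨T, c, rfl, Set.Subset.antisymm ?_ ?_, hπr, inferInstanceAs (Mono π), fun T' x b hb hx => ?_⟩
    · set C := connectedComponentIn (q ⁻¹' {s}) (i' s)
      have hCsub : C ⊆ q ⁻¹' {s} := connectedComponentIn_subset _ _
      have hC : _root_.IsPreconnected (pullback.fst X.hom π ⁻¹' C) := by
        rw [← (pullback.fst X.hom π).isEmbedding.isInducing.isPreconnected_image,
          Set.image_preimage_eq_of_subset (hXr ▸ hCsub)]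
        exact isPreconnected_connectedComponentIn
      obtain ⟨z, hz⟩ := hpt
      have h := hC.subset_isClopen ⟨gc.isClosedEmbedding.isClosed_range, gc.isOpenEmbedding.isOpen_range⟩
        ⟨gc z, by
          show pullback.fst X.hom π (gc z) ∈ C
          rw [← Scheme.Hom.comp_apply, hgcf, hz]
          exact mem_connectedComponentIn (H06EGA15.f_g_apply q i' hq s), ⟨z, rfl⟩⟩
      intro w hw
      obtain ⟨w', rfl⟩ := hXr.ge (hCsub hw)
      rw [hcr]
      exact ⟨w', h hw, rfl⟩
    · haveI : PreconnectedSpace T.left :=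
        inferInstanceAs (PreconnectedSpace ↥(pullback p (S.fromSpecResidueField s)))
      exact (isPreconnected_range c.left.continuous).subset_connectedComponentIn hpt hsub
    · have hxπ : Set.range (x.left ≫ X.hom) ⊆ Set.range π := by
        rintro _ ⟨t, rfl⟩
        obtain ⟨z, hz⟩ := hx ⟨t, rfl⟩
        exact ⟨z, by rw [Scheme.Hom.comp_apply, ← hz, ← Scheme.Hom.comp_apply, hcw]⟩
      rw [← Over.w x] at hb
      let l1 : T'.left ⟶ pullback p (S.fromSpecResidueField s) := pullback.lift (x.left ≫ X.hom) b hb.symm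
      let x1 : T'.left ⟶ pullback X.hom π := pullback.lift x.left l1 (pullback.lift_fst _ _ _).symm
      have hx1 : Set.range x1 ⊆ Set.range gc := by
        rintro _ ⟨t, rfl⟩
        obtain ⟨z, hz⟩ := hx ⟨t, rfl⟩
        refine ⟨z, (pullback.fst X.hom π).isEmbedding.injective ?_⟩
        rw [← Scheme.Hom.comp_apply, hgcf, hz, ← Scheme.Hom.comp_apply, pullback.lift_fst]
      let l := IsOpenImmersion.lift gc x1 hx1
      have hl : l ≫ gc = x1 := IsOpenImmersion.lift_fac _ _ _
      refine ⟨Over.homMk l ?_, Over.OverMorphism.ext ?_⟩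
      · show l ≫ π = T'.hom
        rw [← hcw, ← hgcf, ← Category.assoc, ← Category.assoc, hl, pullback.lift_fst, Over.w x]
      · show x.left = l ≫ c.left
        rw [← hgcf, ← Category.assoc, hl, pullback.lift_fst]
  -- the open subscheme
  let Wo : X.left.Opens := ⟨W, hWopen⟩
  have hqW : ∀ w : X.left, w ∈ W ↔ w ∈ connectedComponentIn (q ⁻¹' {q w}) (i' (q w)) := fun _ => Iff.rfl
  let h := Wo.ι ≫ X.hom
  haveI : Mono h := ⟨fun {Z} b b' hbb => by
    rw [← cancel_mono Wo.ι]
    let T : Over P := Over.mk (b ≫ h)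
    let x : T ⟶ X := Over.homMk (b ≫ Wo.ι) (Category.assoc _ _ _)
    let y : T ⟶ X := Over.homMk (b' ≫ Wo.ι) (by
      show (b' ≫ Wo.ι) ≫ X.hom = b ≫ h
      rw [hbb, Category.assoc])
    obtain ⟨d, hd, -⟩ := existsUnique_smul a ha.1 x y
    suffices hd1 : d = 1 by
      have : x = y := by rw [← hd, hd1, smul_one]
      exact congrArg (fun z : T ⟶ X => z.left) this
    refine eq_one_of_idx hG d fun t => ?_
    let T' : Over P := Over.mk (T.left.fromSpecResidueField t ≫ T.hom)
    let f : T' ⟶ T := pointOver T t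
    haveI : Subsingleton T'.left := inferInstanceAs (Subsingleton (Spec (T.left.residueField t)))
    let r : T'.left := (default : Spec (T.left.residueField t))
    have hfr : f.left r = t := Scheme.fromSpecResidueField_apply _ _
    have hqx : ∀ z : T ⟶ X, q ((f ≫ z).left r) = (T.hom ≫ p) t := fun z => by
      show (X.hom ≫ p) _ = _
      rw [← Scheme.Hom.comp_apply, ← hfr, ← Scheme.Hom.comp_apply, ← Over.w z, Over.comp_left]
      simp only [Category.assoc]
    obtain ⟨T₁, c, -, hc, -, hmono, hfac⟩ := hstruct ((T.hom ≫ p) t)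
    haveI := hmono
    have hin : ∀ (z : T ⟶ X), Set.range z.left ⊆ W → ∃ l : T' ⟶ T₁, f ≫ z = l ≫ c := fun z hz => by
      refine hfac T' (f ≫ z) (Spec.map ((T.hom ≫ p).residueFieldMap t)) ?_ ?_
      · rw [Scheme.Hom.SpecMap_residueFieldMap_fromSpecResidueField]
        exact (Category.assoc _ _ _).symm
      rintro _ ⟨r', rfl⟩
      rw [Subsingleton.elim r' r, ← hc, ← hqx z]
      exact (hqW _).mp (hz ⟨f.left r, (Scheme.Hom.comp_apply _ _ _).symm⟩)
    have hrg : ∀ β : Z ⟶ Wo.toScheme, Set.range (β ≫ Wo.ι) ⊆ W := fun β => by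
      rintro _ ⟨t, rfl⟩
      exact (β t).2
    obtain ⟨l, hl⟩ := hin x (hrg b)
    obtain ⟨l', hl'⟩ := hin y (hrg b')
    have : l = l' := by
      refine Over.OverMorphism.ext ?_
      rw [← cancel_mono T₁.hom, Over.w l, Over.w l']
    have hfd : f ≫ d = 1 := (existsUnique_smul a ha.1 (f ≫ x) (f ≫ y)).unique
      (by rw [← comp_lift_assoc, hd]) (by rw [smul_one, hl, hl', this])
    rw [← hfr, ← idx_comp, ← Category.assoc, hfd]
    exact idx_one hG r⟩
  haveI : IsOpenImmersion h := IsOpenImmersion.of_flat_of_mono h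
  haveI : Surjective h := ⟨fun x => by
    obtain ⟨T, c, -, hc, hT, -, -⟩ := hstruct (p x)
    obtain ⟨z, hz⟩ := hT.ge (Set.mem_singleton (p x))
    have h1 : X.hom (c.left z) = x := by rw [← Scheme.Hom.comp_apply, Over.w c, hz]
    have h2 : q (c.left z) = p x := by
      show (X.hom ≫ p) _ = _
      rw [Scheme.Hom.comp_apply, h1]
    exact ⟨⟨c.left z, (hqW _).mpr (by rw [h2, hc]; exact ⟨z, rfl⟩)⟩, h1⟩⟩
  haveI : IsIso h := (isIso_iff_isOpenImmersion_and_surjective h).2 ⟨inferInstance, inferInstance⟩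
  have hi'W : Set.range i' ⊆ Set.range Wo.ι := by
    rintro _ ⟨s, rfl⟩
    rw [Scheme.Opens.range_ι]
    refine (hqW _).mpr ?_
    rw [H06EGA15.f_g_apply q i' hq s]
    exact mem_connectedComponentIn (H06EGA15.f_g_apply q i' hq s)
  refine ⟨inv h ≫ Wo.ι, by rw [Category.assoc]; exact IsIso.inv_hom_id h, ?_⟩
  rw [← IsOpenImmersion.lift_fac Wo.ι i' hi'W]
  rw [← cancel_mono (𝟙 X.left)]
  have : IsOpenImmersion.lift Wo.ι i' hi'W ≫ h = i := by
    rw [← Category.assoc, IsOpenImmersion.lift_fac, hi']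
  simp only [Category.comp_id]
  rw [← this, Category.assoc, IsIso.hom_inv_id_assoc]

end Groth.Agent.H28Const
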