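import Groth.Agent.H28Const.Unibranch
import Groth.Agent.H13Desc.EtaleFibre
import Mathlib

/-!
# Torsors under constant torsion-free groups over schemes smooth over geometrically unibranch schemes
-/

set_option autoImplicit false
set_option linter.style.haveILetI false
set_option backward.isDefEq.respectTransparency.types false
set_option maxHeartbeats 800000

universe u

open CategoryTheory CategoryTheory.Limits MonoidalCategory CartesianMonoidalCategory MonObj AlgebraicGeometry

namespace Groth.Agent.H28Const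

variable {P : Scheme.{u}} {M : Type u} [Group M] {G X : Over P} [GrpObj G] (a : AlgGrp.Action G X)
  {e : G ≅ TwC.const P M}

theorem tau_comp (hG : TwC.IsConstGrp M G e) (m n : M) : tau e a m ≫ tau e a n = tau e a (n * m) := by
  rw [← smul_pt a e n (tau e a m), show tau e a m = lift (toUnit X ≫ TwC.pt P M m ≫ e.inv) (𝟙 X) ≫ a.act from rfl,
    smul_smul, ← MonObj.comp_mul, hG]
  rfl

theorem tau_one (hG : TwC.IsConstGrp M G e) : tau e a (1 : M) = 𝟙 X := by
  rw [tau, pt_one hG, MonObj.comp_one, smul_one]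

theorem isIso_tau_left (hG : TwC.IsConstGrp M G e) (m : M) : IsIso (tau e a m).left := by
  haveI : IsIso (tau e a m) := ⟨tau e a m⁻¹, by rw [tau_comp a hG, inv_mul_cancel, tau_one a hG],
    by rw [tau_comp a hG, mul_inv_cancel, tau_one a hG]⟩
  exact inferInstanceAs (IsIso ((Over.forget P).map (tau e a m)))

theorem tau_inj (ha : NonAbH1.IsPseudoTorsorSch a) {T : Over P} (t : T.left) (x : T ⟶ X) {m n : M}
    (h : x ≫ tau e a m = x ≫ tau e a n) : m = n := by
  have := (existsUnique_smul a ha x (x ≫ tau e a n)).unique ((smul_pt a e m x).trans h) (smul_pt a e n x)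
  have h2 := congrArg (fun g : T ⟶ G => idx (g ≫ e.hom) t) this
  simpa [idx_pt] using h2

theorem smul_left_apply (m : M) {T : Over P} (x : T ⟶ X) (t : T.left) :
    (x ≫ tau e a m).left t = (tau e a m).left (x.left t) := by
  rw [Over.comp_left, Scheme.Hom.comp_apply]

/-- The residue fields of an etale torsor under a constant torsion-free group are trivial extensions. -/
theorem bijective_residueFieldMap (hG : TwC.IsConstGrp M G e) (ha : NonAbH1.IsPseudoTorsorSch a)
    (hM : ∀ z : M, IsOfFinOrder z → z = 1) [Etale X.hom] (ξ : X.left) :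
    Function.Bijective (X.hom.residueFieldMap ξ).hom := by
  classical
  let K := P.residueField (X.hom ξ)
  let L := X.left.residueField ξ
  letI : Algebra K L := (X.hom.residueFieldMap ξ).hom.toAlgebra
  haveI : Module.Finite K L := H12AlgSp.finite_residueFieldMap_etale X.hom ξ
  haveI : Algebra.IsSeparable K L := inferInstance
  let Ω := AlgebraicClosure K
  let T : Over P := Over.mk (Spec.map (CommRingCat.ofHom (algebraMap K Ω)) ≫ P.fromSpecResidueField (X.hom ξ))
  haveI : Subsingleton T.left := inferInstanceAs (Subsingleton (Spec (CommRingCat.of Ω)))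
  let t : T.left := (default : Spec (CommRingCat.of Ω))
  let pt : (L →ₐ[K] Ω) → (T ⟶ X) := fun σ =>
    Over.homMk (Spec.map (CommRingCat.ofHom σ.toRingHom) ≫ X.left.fromSpecResidueField ξ) (by
      show (Spec.map (CommRingCat.ofHom σ.toRingHom) ≫ X.left.fromSpecResidueField ξ) ≫ X.hom = _
      rw [Category.assoc, ← Scheme.Hom.SpecMap_residueFieldMap_fromSpecResidueField, ← Category.assoc, ← Spec.map_comp]
      congr 2
      ext y
      exact σ.commutes y)
  have hpt : ∀ σ τ, pt σ = pt τ → σ = τ := fun σ τ h => by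
    have h1 : Spec.map (CommRingCat.ofHom σ.toRingHom) ≫ X.left.fromSpecResidueField ξ =
        Spec.map (CommRingCat.ofHom τ.toRingHom) ≫ X.left.fromSpecResidueField ξ :=
      congrArg (fun z : T ⟶ X => z.left) h
    rw [cancel_mono, Spec.map_inj] at h1
    exact AlgHom.coe_ringHom_injective (congrArg CommRingCat.Hom.hom h1)
  have hss : ∀ σ τ : L →ₐ[K] Ω, σ = τ := by
    intro σ τ
    obtain ⟨m, hm⟩ := exists_point_smul (e := e) a hG ha t (pt σ) (pt τ)
    suffices m = 1 by
      refine hpt _ _ ?_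
      rw [← hm, this, tau_one a hG, Category.comp_id]
    let ρ : Ω →ₐ[K] Ω :=
      ((τ.comp (AlgEquiv.ofInjectiveField σ).symm.toAlgHom : σ.fieldRange →ₐ[K] Ω)).liftNormal Ω
    have hρ : ∀ y, ρ (σ y) = τ y := fun y => by
      have h := AlgHom.liftNormal_commutes
        (τ.comp (AlgEquiv.ofInjectiveField σ).symm.toAlgHom : σ.fieldRange →ₐ[K] Ω) Ω
        (AlgEquiv.ofInjectiveField σ y)
      exact h.trans (congrArg τ ((AlgEquiv.ofInjectiveField σ).symm_apply_apply y))
    let R : T ⟶ T := Over.homMk (Spec.map (CommRingCat.ofHom ρ.toRingHom)) (by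
      show Spec.map _ ≫ Spec.map _ ≫ _ = Spec.map _ ≫ _
      rw [← Category.assoc, ← Spec.map_comp]
      congr 2
      ext y
      exact ρ.commutes y)
    have hR : ∀ σ' : L →ₐ[K] Ω, R ≫ pt σ' = pt (ρ.comp σ') := fun σ' => Over.OverMorphism.ext (by
      show Spec.map _ ≫ Spec.map _ ≫ _ = Spec.map _ ≫ _
      rw [← Category.assoc, ← Spec.map_comp]
      rfl)
    have hρσ : ρ.comp σ = τ := AlgHom.ext hρ
    have hiter : ∀ n : ℕ, pt ((fun s : L →ₐ[K] Ω => ρ.comp s)^[n] σ) = pt σ ≫ tau e a (m ^ n) := by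
      intro n
      induction n with
      | zero => rw [pow_zero, tau_one a hG, Category.comp_id]; rfl
      | succ n ih =>
        rw [Function.iterate_succ_apply', ← hR, ih, ← Category.assoc, hR, hρσ, ← hm, Category.assoc,
          tau_comp a hG, pow_succ]
    refine hM m ?_
    by_contra hord
    obtain ⟨i, j, hne, hij⟩ := Finite.exists_ne_map_eq_of_infinite (fun n : ℕ => (fun s : L →ₐ[K] Ω => ρ.comp s)^[n] σ)
    have := tau_inj a ha t (pt σ) ((hiter i).symm.trans ((congrArg pt hij).trans (hiter j)))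
    exact hne (injective_pow_iff_not_isOfFinOrder.2 hord this)
  have hcard : Module.finrank K L = 1 := by
    rw [← AlgHom.card K L Ω]
    haveI : Subsingleton (L →ₐ[K] Ω) := ⟨hss⟩
    haveI : Nonempty (L →ₐ[K] Ω) := ⟨IsAlgClosed.lift⟩
    exact Fintype.card_eq_one_iff.2 ⟨Classical.arbitrary _, fun _ => Subsingleton.elim _ _⟩
  exact ⟨RingHom.injective _, (bijective_algebraMap_of_finrank_eq_one hcard).2⟩
where
  bijective_algebraMap_of_finrank_eq_one {A B : Type u} [Field A] [Field B] [Algebra A B]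
      (h : Module.finrank A B = 1) : Function.Bijective (algebraMap A B) := by
    have hb : (⊥ : Subalgebra A B) = ⊤ := Subalgebra.bot_eq_top_of_finrank_eq_one h
    exact ⟨(algebraMap A B).injective, fun y => Algebra.mem_bot.1 (hb ▸ Algebra.mem_top : y ∈ (⊥ : Subalgebra A B))⟩

theorem hasSection_of_geomUnibranch (hG : TwC.IsConstGrp M G e)
    (ha : NonAbH1.IsTorsorFor Scheme.fppfPrecoverage a) (hM : ∀ z : M, IsOfFinOrder z → z = 1)
    {S : Scheme.{u}} [IrreducibleSpace S] (f : P ⟶ S) [Smooth f]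
    (hS : ∀ s : S, CAlg2.IsGeomUnibranch (S.presheaf.stalk s)) : ∃ g : P ⟶ X.left, g ≫ X.hom = 𝟙 P := by
  haveI := etale_torsor e ha
  let q := X.hom ≫ f
  have hsurj : ∀ p : P, ∃ x : X.left, X.hom x = p := by
    intro p
    obtain ⟨-, R, hR, hsec⟩ := id ha
    obtain ⟨Y', g', hg', hx⟩ := hR.1 p
    obtain ⟨hg⟩ := hg'
    rename_i W g
    obtain ⟨y, hy⟩ := hx
    obtain ⟨σ, hσ⟩ := hsec g hg
    refine ⟨σ y, ?_⟩
    rw [← Scheme.Hom.comp_apply, hσ]
    exact hy
  have hlift : ∀ (c : P) (_ : IsMax c) (x : X.left), c ⤳ X.hom x → ∀ z, IsMax z → z ⤳ x → X.hom z = c := by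
    intro c hc x hcx z hz hzx
    exact isMax_unique f hS (hz.map X.hom) (hzx.map X.hom.continuous) hc hcx
  have hex : ∀ c : {c : P // IsMax c}, ∃ ξ : X.left, IsMax ξ ∧ X.hom ξ = c.1 := fun c => by
    obtain ⟨x, hx⟩ := hsurj c.1
    obtain ⟨z, hz, hzx⟩ := exists_isMax x
    exact ⟨z, hz, hlift c.1 c.2 x (hx ▸ specializes_rfl) z hz hzx⟩
  choose ξ hξ hξc using hex
  let Wo : X.left.Opens := ⟨⋃ c, closure {ξ c}, isOpen_iUnion fun c => isOpen_closure_isMax q hS (hξ c)⟩
  let h := Wo.ι ≫ X.hom
  haveI : Mono h := ⟨fun {Z} b b' hbb => by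
    rw [← cancel_mono Wo.ι]
    let T : Over P := Over.mk (b ≫ h)
    let x : T ⟶ X := Over.homMk (b ≫ Wo.ι) (Category.assoc _ _ _)
    let y : T ⟶ X := Over.homMk (b' ≫ Wo.ι) (by
      show (b' ≫ Wo.ι) ≫ X.hom = b ≫ h
      rw [hbb, Category.assoc])
    obtain ⟨d, hd, -⟩ := existsUnique_smul a ha.1 x y
    suffices hd1 : d = 1 by
      have : x = y := by rw [← hd, hd1, smul_one]
      exact congrArg (fun z : T ⟶ X => z.left) this
    refine eq_one_of_idx hG d fun s => ?_
    let T' : Over P := Over.mk (T.left.fromSpecResidueField s ≫ T.hom)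
    let j : T' ⟶ T := pointOver T s
    haveI : Subsingleton T'.left := inferInstanceAs (Subsingleton (Spec (T.left.residueField s)))
    let r : T'.left := (default : Spec (T.left.residueField s))
    have hjr : j.left r = s := Scheme.fromSpecResidueField_apply _ _
    obtain ⟨m, hm⟩ := exists_point_smul (e := e) a hG ha.1 r (j ≫ x) (j ≫ y)
    have hmem : ∀ β : Z ⟶ Wo.toScheme, ∃ c, ξ c ⤳ (β ≫ Wo.ι) (j.left r) := fun β => by
      obtain ⟨c, hc⟩ := Set.mem_iUnion.1 (β (j.left r)).2
      exact ⟨c, specializes_iff_mem_closure.2 hc⟩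
    obtain ⟨c₁, h₁⟩ := hmem b
    obtain ⟨c₂, h₂⟩ := hmem b'
    have hc : c₁ = c₂ := by
      refine Subtype.ext (isMax_unique f hS c₁.2 ?_ c₂.2 ?_ (x := X.hom ((b ≫ Wo.ι) (j.left r))))
      · rw [← hξc c₁]; exact h₁.map X.hom.continuous
      · rw [← hξc c₂]
        have he : X.hom ((b ≫ Wo.ι) (j.left r)) = X.hom ((b' ≫ Wo.ι) (j.left r)) := by
          have h7 := congrArg (fun z : Z ⟶ P => z (j.left r)) hbb
          simp only [h, Scheme.Hom.comp_apply] at h7 ⊢
          exact h7
        rw [he]; exact h₂.map X.hom.continuous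
    subst hc
    haveI := isIso_tau_left a hG m
    have hfix : (tau e a m).left (ξ c₁) = ξ c₁ := by
      have hsp : (tau e a m).left (ξ c₁) ⤳ (b' ≫ Wo.ι) (j.left r) := by
        have h3 := h₁.map (tau e a m).left.continuous
        have h4 : (tau e a m).left ((b ≫ Wo.ι) (j.left r)) = (b' ≫ Wo.ι) (j.left r) := by
          have h5 := congrArg (fun z : T' ⟶ X => z.left r) hm
          simp only [Over.comp_left, Scheme.Hom.comp_apply] at h5
          exact h5
        rw [h4] at h3
        exact h3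
      exact isMax_unique q hS ((hξ c₁).map _) hsp (hξ c₁) h₂
    let T₁ : Over P := Over.mk (X.left.fromSpecResidueField (ξ c₁) ≫ X.hom)
    let x₁ : T₁ ⟶ X := Over.homMk (X.left.fromSpecResidueField (ξ c₁))
    let r₁ : T₁.left := (default : Spec (X.left.residueField (ξ c₁)))
    haveI : Mono T₁.hom := by
      haveI : IsIso (X.hom.residueFieldMap (ξ c₁)) :=
        (ConcreteCategory.isIso_iff_bijective _).2 (bijective_residueFieldMap a hG ha.1 hM (ξ c₁))
      show Mono (X.left.fromSpecResidueField (ξ c₁) ≫ X.hom)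
      rw [← Scheme.Hom.SpecMap_residueFieldMap_fromSpecResidueField]
      infer_instance
    have hx₁ : x₁ ≫ tau e a m = x₁ := by
      have hpt : (x₁ ≫ tau e a m).left r₁ = ξ c₁ := by
        rw [smul_left_apply, show x₁.left r₁ = ξ c₁ from Scheme.fromSpecResidueField_apply _ _, hfix]
      obtain ⟨l, hl⟩ : ∃ l : T₁.left ⟶ T₁.left, (x₁ ≫ tau e a m).left = l ≫ x₁.left := by
        obtain ⟨⟨z, ψ⟩, hzψ⟩ := (Scheme.SpecToEquivOfField (X.left.residueField (ξ c₁)) X.left).symm.surjective
          (x₁ ≫ tau e a m).left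
        have hzψ' : Spec.map ψ ≫ X.left.fromSpecResidueField z = (x₁ ≫ tau e a m).left := hzψ
        have hz : z = ξ c₁ := by
          rw [← hpt, ← hzψ', Scheme.Hom.comp_apply, Scheme.fromSpecResidueField_apply]
        subst hz
        exact ⟨Spec.map ψ, hzψ'.symm⟩
      refine Over.OverMorphism.ext ?_
      have h6 : l ≫ T₁.hom = 𝟙 _ ≫ T₁.hom := by
        rw [Category.id_comp]
        show l ≫ x₁.left ≫ X.hom = T₁.hom
        rw [← Category.assoc, ← hl, Over.w]
      rw [hl, (cancel_mono _).1 h6]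
      exact Category.id_comp _
    have hm1 : m = 1 := tau_inj a ha.1 r₁ x₁ (by rw [hx₁, tau_one a hG, Category.comp_id])
    have hjd : j ≫ d = 1 := (existsUnique_smul a ha.1 (j ≫ x) (j ≫ y)).unique
      (by rw [← comp_lift_assoc, hd]) (by rw [smul_one, ← hm, hm1, tau_one a hG, Category.comp_id])
    rw [← hjr, ← idx_comp, ← Category.assoc, hjd]
    exact idx_one hG r⟩
  haveI : IsOpenImmersion h := IsOpenImmersion.of_flat_of_mono h
  haveI : Surjective h := ⟨fun p => by
    obtain ⟨c, hc, hcp⟩ := exists_isMax p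
    obtain ⟨x, hx⟩ := hsurj p
    obtain ⟨z, hz, hzx⟩ := exists_isMax x
    have hzc := hlift c hc x (hx ▸ hcp) z hz hzx
    obtain ⟨w, hw1, hw2⟩ := Scheme.Pullback.exists_preimage_pullback (f := X.hom) (g := X.hom) z (ξ ⟨c, hc⟩)
      (hzc.trans (hξc ⟨c, hc⟩).symm)
    let T' : Over P := Over.mk ((pullback X.hom X.hom).fromSpecResidueField w ≫ pullback.fst X.hom X.hom ≫ X.hom)
    let u₁ : T' ⟶ X := Over.homMk ((pullback X.hom X.hom).fromSpecResidueField w ≫ pullback.fst X.hom X.hom)
      (Category.assoc _ _ _)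
    let u₂ : T' ⟶ X := Over.homMk ((pullback X.hom X.hom).fromSpecResidueField w ≫ pullback.snd X.hom X.hom) (by
      show (_ ≫ _) ≫ X.hom = _ ≫ _ ≫ X.hom
      rw [Category.assoc, pullback.condition])
    haveI : Subsingleton T'.left := inferInstanceAs (Subsingleton (Spec ((pullback X.hom X.hom).residueField w)))
    let r : T'.left := (default : Spec ((pullback X.hom X.hom).residueField w))
    obtain ⟨m, hm⟩ := exists_point_smul (e := e) a hG ha.1 r u₁ u₂
    have h5 := congrArg (fun v : T' ⟶ X => v.left r) hm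
    simp only [Over.comp_left, Scheme.Hom.comp_apply] at h5
    change (tau e a m).left (pullback.fst X.hom X.hom ((pullback X.hom X.hom).fromSpecResidueField w r)) =
      pullback.snd X.hom X.hom ((pullback X.hom X.hom).fromSpecResidueField w r) at h5
    rw [Scheme.fromSpecResidueField_apply, hw1, hw2] at h5
    refine ⟨⟨(tau e a m).left x, Set.mem_iUnion.2 ⟨⟨c, hc⟩, ?_⟩⟩, ?_⟩
    · rw [← h5]
      exact (hzx.map (tau e a m).left.continuous).mem_closure
    · show X.hom ((tau e a m).left x) = p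
      rw [← Scheme.Hom.comp_apply, Over.w (tau e a m), hx]⟩
  haveI : IsIso h := (isIso_iff_isOpenImmersion_and_surjective h).2 ⟨inferInstance, inferInstance⟩
  exact ⟨inv h ≫ Wo.ι, by rw [Category.assoc]; exact IsIso.inv_hom_id h⟩

end Groth.Agent.H28Const
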