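import Groth.Agent.H28Const.Split
import Groth.Agent.H28Const.Extend
import Groth.Agent.H28Const.BcExact
import Groth.Agent.H12AlgSp.HilbQuot
import Mathlib

/-!
# Twisted constant groups
-/

set_option autoImplicit false
set_option linter.style.haveILetI false
set_option backward.isDefEq.respectTransparency.types false
set_option maxHeartbeats 800000

universe u

open CategoryTheory CategoryTheory.Limits MonoidalCategory CartesianMonoidalCategory MonObj AlgebraicGeometry

namespace Groth.Agent.H28Const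

variable {S : Scheme.{u}}

/-- Lifting the index type to the universe of the base. -/
theorem exists_ulift {G : Over S} [GrpObj G] {M : Type} [Group M] (e : G ≅ TwC.const S M) (hG : TwC.IsConstGrp M G e) :
    ∃ e' : G ≅ TwC.const S (ULift.{u} M), TwC.IsConstGrp (ULift.{u} M) G e' := by
  let c : TwC.const S M ≅ TwC.const S (ULift.{u} M) :=
    { hom := TwC.constMap S ULift.up
      inv := TwC.constMap S ULift.down
      hom_inv_id := Over.OverMorphism.ext (Sigma.hom_ext _ _ fun m => by simp [TwC.constMap])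
      inv_hom_id := Over.OverMorphism.ext (Sigma.hom_ext _ _ fun m => by simp [TwC.constMap]) }
  have hc : ∀ m : ULift.{u} M, TwC.pt S (ULift.{u} M) m ≫ (e ≪≫ c).inv = TwC.pt S M m.down ≫ e.inv := fun m => by
    rw [Iso.trans_inv, ← Category.assoc]
    congr 1
    exact Over.OverMorphism.ext (by simp [TwC.pt, c, TwC.constMap])
  exact ⟨e ≪≫ c, fun m n => by rw [hc, hc, hc]; exact hG m.down n.down⟩

/-- Locally on a flat quasi-compact cover, the group is constant torsion-free. -/
def IsTwistedLattice (M : Over S) [GrpObj M] : Prop :=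
  TwC.Locally S TwC.Topology.fpqc (fun S' f =>
    ∃ (r : ℕ) (e : Red.bc f M ≅ TwC.const S' (Multiplicative (Fin r → ℤ))),
      TwC.IsConstGrp (Multiplicative (Fin r → ℤ)) (Red.bc f M) e)

variable {M : Over S} [GrpObj M]

/-- The unit section pulls back to the unit section. -/
theorem preimage_range_one {S' : Scheme.{u}} (f : S' ⟶ S) (G : Over S) [GrpObj G] :
    pullback.fst G.hom f ⁻¹' Set.range (η[G]).left = Set.range (η[Red.bc f G]).left := by
  have hfst : (η[Red.bc f G]).left ≫ pullback.fst G.hom f = f ≫ (η[G]).left := H19Grp.bc_one f G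
  have hsnd : (η[Red.bc f G]).left ≫ pullback.snd G.hom f = 𝟙 S' := Over.w η[Red.bc f G]
  have hone : (η[G]).left ≫ G.hom = 𝟙 S := Over.w η[G]
  have h12 : IsPullback ((η[Red.bc f G]).left ≫ pullback.snd G.hom f) f f ((η[G]).left ≫ G.hom) := by
    rw [hsnd, hone]
    exact IsPullback.id_horiz f
  have sq : IsPullback (η[Red.bc f G]).left f (pullback.fst G.hom f) (η[G]).left :=
    IsPullback.of_right h12 hfst (IsPullback.of_hasPullback G.hom f).flip
  refine Set.Subset.antisymm ?_ ?_
  · rintro w ⟨s, hs⟩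
    obtain ⟨t, ht, -⟩ := Scheme.exists_preimage_of_isPullback sq w s hs.symm
    exact ⟨t, ht⟩
  · rintro _ ⟨t, rfl⟩
    exact ⟨f t, by rw [← Scheme.Hom.comp_apply, ← Scheme.Hom.comp_apply, hfst]⟩

theorem restrict_snd {S' : Scheme.{u}} (f : S' ⟶ S) (U : S'.Opens) (M : Over S) :
    IsPullback (pullback.map M.hom (U.ι ≫ f) M.hom f (𝟙 _) U.ι (𝟙 _) (by simp) (by simp))
      (pullback.snd M.hom (U.ι ≫ f)) (pullback.snd M.hom f) U.ι := by
  refine IsPullback.of_right ?_ (pullback.lift_snd _ _ _) (IsPullback.of_hasPullback M.hom f)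
  rw [pullback.lift_fst, Category.comp_id]
  exact IsPullback.of_hasPullback M.hom (U.ι ≫ f)

theorem snd_props {S' : Scheme.{u}} (f : S' ⟶ S)
    (hloc : ∀ s' : S', ∃ U : S'.Opens, s' ∈ U ∧ ∃ (r : ℕ) (e : Red.bc (U.ι ≫ f) M ≅ TwC.const U (Multiplicative (Fin r → ℤ))),
      TwC.IsConstGrp (Multiplicative (Fin r → ℤ)) (Red.bc (U.ι ≫ f) M) e) :
    Etale (pullback.snd M.hom f) ∧ IsSeparated (pullback.snd M.hom f) := by
  have key : ∀ (Q : MorphismProperty Scheme.{u}) [IsZariskiLocalAtTarget Q],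
      (∀ (U : S'.Opens) (r : ℕ), Q (TwC.const (U : Scheme.{u}) (ULift.{u} (Multiplicative (Fin r → ℤ)))).hom) →
      Q (pullback.snd M.hom f) := by
    intro Q _ hQ
    refine IsZariskiLocalAtTarget.of_forall_exists_morphismRestrict fun s' => ?_
    obtain ⟨U, hU, r, e, he⟩ := hloc s'
    refine ⟨U, hU, ?_⟩
    have hP := isPullback_morphismRestrict (pullback.snd M.hom f) U
    have hP' := restrict_snd f U M
    have h1 : pullback.snd M.hom f ∣_ U = (hP.flip.isoIsPullback _ _ hP').hom ≫ pullback.snd M.hom (U.ι ≫ f) :=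
      (hP.flip.isoIsPullback_hom_snd _ _ hP').symm
    rw [h1, Q.cancel_left_of_respectsIso]
    show Q (Red.bc (U.ι ≫ f) M).hom
    obtain ⟨e', -⟩ := exists_ulift e (by assumption)
    rw [← Over.w e'.hom, Q.cancel_left_of_respectsIso]
    exact hQ U r
  exact ⟨key @Etale fun U r => IsZariskiLocalAtSource.sigmaDesc (P := @Etale) fun _ => inferInstanceAs (Etale (𝟙 _)),
    key @IsSeparated fun U r => H12AlgSp.isSeparated_sigmaDesc (fun _ => 𝟙 (U : Scheme.{u})) fun _ => inferInstance⟩

/-- A twisted lattice is etale and its unit section is closed. -/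
theorem twistedLattice_props (hM : IsTwistedLattice M) : Etale M.hom ∧ IsClosedImmersion (η[M]).left := by
  obtain ⟨S', f, hflat, hsurj, hqc, hloc⟩ := hM
  haveI := hflat
  obtain ⟨hetS', hsepS'⟩ := snd_props f hloc
  haveI := hetS'
  haveI := hsepS'
  haveI : IsClosedImmersion (η[Red.bc f M]).left := by
    haveI : IsClosedImmersion ((η[Red.bc f M]).left ≫ (Red.bc f M).hom) := by
      rw [Over.w]; exact inferInstanceAs (IsClosedImmersion (𝟙 S'))
    haveI : IsSeparated (Red.bc f M).hom := hsepS'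
    exact IsClosedImmersion.of_comp (η[Red.bc f M]).left (Red.bc f M).hom
  have hclS' : IsClosed (pullback.fst M.hom f ⁻¹' Set.range (η[M]).left) := by
    rw [preimage_range_one]
    exact (η[Red.bc f M]).left.isClosedEmbedding.isClosed_range
  have hcover : ∀ V : S.Opens, IsAffineOpen V → ∃ (T : Scheme.{u}) (h : T ⟶ V) (t : T ⟶ S'),
      Surjective h ∧ Flat h ∧ QuasiCompact h ∧ h ≫ V.ι = t ≫ f := by
    intro V hV
    obtain ⟨W, hW, hWV⟩ := hqc V hV
    have hr : Set.range (W.ι ≫ f) ⊆ Set.range V.ι := by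
      rintro _ ⟨w, rfl⟩
      rw [Scheme.Opens.range_ι, ← hWV]
      exact ⟨w.1, w.2, rfl⟩
    let h := IsOpenImmersion.lift V.ι (W.ι ≫ f) hr
    have hh : h ≫ V.ι = W.ι ≫ f := IsOpenImmersion.lift_fac _ _ _
    haveI : CompactSpace W.toScheme := isCompact_iff_compactSpace.1 hW
    haveI : IsAffine V.toScheme := hV
    refine ⟨W, h, W.ι, ⟨fun p => ?_⟩, ?_, quasiCompact_of_compactSpace h, hh⟩
    · obtain ⟨w, hw, hwp⟩ := hWV.ge p.2
      refine ⟨⟨w, hw⟩, Subtype.ext ?_⟩
      have := congrArg (fun q : W.toScheme ⟶ S => q ⟨w, hw⟩) hh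
      simp only [Scheme.Hom.comp_apply] at this
      exact this.trans hwp
    · have : Flat (h ≫ V.ι) := by rw [hh]; infer_instance
      have hsq : IsPullback h (𝟙 _) V.ι (h ≫ V.ι) := ⟨⟨(Category.id_comp _).symm⟩, ⟨PullbackCone.IsLimit.mk _
        (fun c => c.snd) (fun c => by rw [← cancel_mono V.ι, Category.assoc, c.condition])
        (fun c => Category.comp_id _) fun c m _ h2 => by simpa using h2⟩⟩
      exact MorphismProperty.of_isPullback (P := @Flat) hsq.flip this
  have hsq : ∀ (V : S.Opens) {T : Scheme.{u}} (h : T ⟶ V) (t : T ⟶ S'), h ≫ V.ι = t ≫ f →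
      ∃ l : pullback (M.hom ∣_ V) h ⟶ pullback M.hom f,
        IsPullback l (pullback.snd (M.hom ∣_ V) h) (pullback.snd M.hom f) t ∧
        l ≫ pullback.fst M.hom f = pullback.fst (M.hom ∣_ V) h ≫ (M.hom ⁻¹ᵁ V).ι := by
    intro V T h t e
    have h1 : IsPullback (pullback.fst (M.hom ∣_ V) h ≫ (M.hom ⁻¹ᵁ V).ι) (pullback.snd (M.hom ∣_ V) h) M.hom
        (h ≫ V.ι) :=
      (IsPullback.of_hasPullback (M.hom ∣_ V) h).paste_horiz (isPullback_morphismRestrict M.hom V).flip
    rw [e] at h1
    let l := pullback.lift (pullback.fst (M.hom ∣_ V) h ≫ (M.hom ⁻¹ᵁ V).ι) (pullback.snd (M.hom ∣_ V) h ≫ t)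
      (by rw [Category.assoc (pullback.snd (M.hom ∣_ V) h)]; exact h1.w)
    exact ⟨l, IsPullback.of_right (by rw [pullback.lift_fst]; exact h1) (pullback.lift_snd _ _ _)
      (IsPullback.of_hasPullback M.hom f), pullback.lift_fst _ _ _⟩
  have het : Etale M.hom := by
    refine IsZariskiLocalAtTarget.of_forall_exists_morphismRestrict (P := @Etale) fun s => ?_
    obtain ⟨V, hV, hsV, -⟩ := exists_isAffineOpen_mem_and_subset (X := S) (x := s) (U := ⊤) trivial
    obtain ⟨T, h, t, hs, hf, hq, e⟩ := hcover V hV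
    obtain ⟨l, hl, -⟩ := hsq V h t e
    exact ⟨V, hsV, MorphismProperty.of_isPullback_of_descendsAlong (P := @Etale)
      (Q := @Surjective ⊓ @Flat ⊓ @QuasiCompact) (IsPullback.of_hasPullback (M.hom ∣_ V) h).flip ⟨⟨hs, hf⟩, hq⟩
      (MorphismProperty.of_isPullback (P := @Etale) hl hetS')⟩
  refine ⟨het, ?_⟩
  haveI := het
  haveI : IsOpenImmersion (η[M]).left := by
    haveI : Etale ((η[M]).left ≫ M.hom) := by rw [Over.w]; exact inferInstanceAs (Etale (𝟙 S))
    haveI : Etale (η[M]).left := Etale.of_comp (η[M]).left M.hom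
    haveI : Mono ((η[M]).left ≫ M.hom) := by rw [Over.w]; exact inferInstanceAs (Mono (𝟙 S))
    haveI : Mono (η[M]).left := mono_of_mono (η[M]).left M.hom
    exact IsOpenImmersion.of_flat_of_mono (η[M]).left
  refine IsClosedImmersion.of_isPreimmersion _ ?_
  have hcov : TopologicalSpace.IsOpenCover fun V : S.affineOpens => M.hom ⁻¹ᵁ V.1 := by
    refine eq_top_iff.mpr fun x _ => ?_
    obtain ⟨V, hV, hxV, -⟩ := exists_isAffineOpen_mem_and_subset (X := S) (x := M.hom x) (U := ⊤) trivial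
    exact TopologicalSpace.Opens.mem_iSup.mpr ⟨⟨V, hV⟩, hxV⟩
  rw [hcov.isClosed_iff_coe_preimage]
  intro V
  obtain ⟨T, h, t, hs, hf, hq, e⟩ := hcover V.1 V.2
  obtain ⟨l, -, hl⟩ := hsq V.1 h t e
  haveI := hs
  haveI := hf
  haveI := hq
  haveI : Flat (pullback.fst (M.hom ∣_ V.1) h) := MorphismProperty.pullback_fst (P := @Flat) _ _ hf
  haveI : Surjective (pullback.fst (M.hom ∣_ V.1) h) := MorphismProperty.pullback_fst (P := @Surjective) _ _ hs
  haveI : QuasiCompact (pullback.fst (M.hom ∣_ V.1) h) := MorphismProperty.pullback_fst (P := @QuasiCompact) _ _ hq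
  refine (Flat.isQuotientMap_of_surjective (pullback.fst (M.hom ∣_ V.1) h)).isClosed_preimage.1 ?_
  have : pullback.fst (M.hom ∣_ V.1) h ⁻¹' ((Subtype.val : ↥(M.hom ⁻¹ᵁ V.1) → M.left) ⁻¹' Set.range (η[M]).left) =
      l ⁻¹' (pullback.fst M.hom f ⁻¹' Set.range (η[M]).left) := by
    ext w
    simp only [Set.mem_preimage, ← Scheme.Hom.comp_apply, hl]
    rfl
  exact (congrArg IsClosed this).mpr (hclS'.preimage l.continuous)

/-- A morphism to a twisted lattice trivial along a section of a family with connected fibres is trivial. -/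
theorem eq_one_of_section (hM : IsTwistedLattice M) {B X : Scheme.{u}} (q : X ⟶ B) [GeometricallyConnected q]
    (i : B ⟶ X) (hi : i ≫ q = 𝟙 B) (b : X ⟶ S) (d : Over.mk b ⟶ M) (hd : Set.range (i ≫ d.left) ⊆ Set.range (η[M]).left) :
    d = 1 := by
  obtain ⟨het, hcl⟩ := twistedLattice_props hM
  haveI := het
  haveI := hcl
  haveI : Etale ((η[M]).left ≫ M.hom) := by rw [Over.w]; exact inferInstanceAs (Etale (𝟙 S))
  haveI : Etale (η[M]).left := Etale.of_comp (η[M]).left M.hom
  haveI : IsOpenImmersion (η[M]).left := IsOpenImmersion.of_flat_of_mono (η[M]).left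
  let D : Set X := d.left ⁻¹' Set.range (η[M]).left
  have hD : IsClopen D := ⟨(η[M]).left.isClosedEmbedding.isClosed_range.preimage d.left.continuous,
    (η[M]).left.isOpenEmbedding.isOpen_range.preimage d.left.continuous⟩
  have hall : Set.range d.left ⊆ Set.range (η[M]).left := by
    rintro _ ⟨x, rfl⟩
    exact (q.isConnected_preimage_singleton (q x)).isPreconnected.subset_isClopen hD
      ⟨i (q x), (by show q (i (q x)) = q x; rw [← Scheme.Hom.comp_apply, hi]; rfl),
        hd ⟨q x, Scheme.Hom.comp_apply _ _ _⟩⟩ (show x ∈ q ⁻¹' {q x} from rfl)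
  let l := IsOpenImmersion.lift (η[M]).left d.left hall
  have hl : l ≫ (η[M]).left = d.left := IsOpenImmersion.lift_fac _ _ _
  let l' : Over.mk b ⟶ 𝟙_ (Over S) := Over.homMk l (by
    show l ≫ (𝟙_ (Over S)).hom = b
    rw [← Over.w η[M], ← Category.assoc, hl]
    exact Over.w d)
  have : d = l' ≫ η[M] := Over.OverMorphism.ext hl.symm
  rw [this, Hom.one_def, Subsingleton.elim l' (toUnit _)]

end Groth.Agent.H28Const
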