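import Groth.Agent.H28Const.Twisted
import Groth.Agent.H28Const.Torsor
import Groth.Agent.H06SecComp.BaseChange
import Groth.Agent.S8708
import Mathlib

/-!
# Extensions by twisted lattices
-/

set_option autoImplicit false
set_option linter.style.haveILetI false
set_option backward.isDefEq.respectTransparency.types false
set_option maxHeartbeats 1600000

universe u

open CategoryTheory CategoryTheory.Limits MonoidalCategory CartesianMonoidalCategory MonObj AlgebraicGeometry

namespace Groth.Agent.H28Const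

variable {S : Scheme.{u}} {M E P : Over S} [GrpObj M] [GrpObj E] [GrpObj P] {u : M ⟶ E} {v : E ⟶ P}

theorem isPullback_trivialise' (hex : NonAbH1.IsExactSeq Scheme.fppfPrecoverage u v) {T : Over S}
    (σ : T ⟶ E) : IsPullback ((fst T M ≫ σ) * (snd T M ≫ u)) (fst T M) v (σ ≫ v) := by
  haveI hu : IsMonHom u := hex.1
  haveI hv : IsMonHom v := hex.2.1
  have hkill : ∀ {W : Over S} (g : W ⟶ M), (g ≫ u) ≫ v = 1 := fun g => by
    rw [Category.assoc, hex.2.2.1, MonObj.comp_one]
  refine IsPullback.of_isLimit' ⟨by rw [MonObj.mul_comp, hkill, _root_.mul_one, Category.assoc]⟩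
    (PullbackCone.IsLimit.mk _ (fun s => lift s.snd
      (H28SGA7.exists_unique_mul hex (s.snd ≫ σ) s.fst (by rw [Category.assoc, ← s.condition])).choose)
      (fun s => ?_) (fun s => lift_fst _ _) fun s m h1 h2 => ?_)
  · rw [MonObj.comp_mul, lift_fst_assoc, lift_snd_assoc]
    exact (H28SGA7.exists_unique_mul hex (s.snd ≫ σ) s.fst (by rw [Category.assoc, ← s.condition])).choose_spec.1
  · refine CartesianMonoidalCategory.hom_ext _ _ ?_ ?_
    · rw [lift_fst, h2]
    · rw [lift_snd]
      refine (H28SGA7.exists_unique_mul hex (s.snd ≫ σ) s.fst (by rw [Category.assoc, ← s.condition])).choose_spec.2 _ ?_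
      show (s.snd ≫ σ) * (m ≫ snd T M) ≫ u = s.fst
      rw [← h1, MonObj.comp_mul, ← Category.assoc m (fst T M), h2, Category.assoc]

theorem etale_of_exact' (hex : NonAbH1.IsExactSeq Scheme.fppfPrecoverage u v) [Etale M.hom] : Etale v.left := by
  obtain ⟨-, -, -, -, R, hR, hsec⟩ := id hex
  refine IsZariskiLocalAtTarget.of_forall_exists_morphismRestrict (P := @Etale) fun x => ?_
  obtain ⟨V₀, hV₀, hxV₀, -⟩ := exists_isAffineOpen_mem_and_subset (X := P.left) (x := x) (U := ⊤) trivial
  obtain ⟨Y', g', hg', hx⟩ := hR.1 x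
  obtain ⟨hg⟩ := hg'
  rename_i W g
  obtain ⟨y, hy⟩ := hx
  obtain ⟨σ, hσ⟩ := hsec g hg
  haveI : Flat g := (hR.2 hg).1
  haveI : LocallyOfFinitePresentation g := (hR.2 hg).2
  obtain ⟨U, hU, hyU, hUV⟩ := exists_isAffineOpen_mem_and_subset (X := _) (x := y) (U := g ⁻¹ᵁ V₀)
    (show g y ∈ V₀ from hy ▸ hxV₀)
  haveI : IsAffine (U : Scheme.{u}) := hU
  let f0 : (U : Scheme.{u}) ⟶ P.left := U.ι ≫ g
  let V : P.left.Opens := ⟨Set.range f0, f0.isOpenMap.isOpen_range⟩
  have hVV₀ : V ≤ V₀ := by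
    rintro _ ⟨z, rfl⟩
    exact hUV z.2
  let U' := f0 ⁻¹ᵁ V
  have hU' : U' = ⊤ := TopologicalSpace.Opens.ext (Set.eq_univ_of_forall fun z => ⟨z, rfl⟩)
  haveI : CompactSpace (U' : Scheme.{u}) := by
    refine isCompact_iff_compactSpace.1 ?_
    rw [hU']
    exact isCompact_univ
  haveI : IsAffine (V₀ : Scheme.{u}) := hV₀
  haveI : V.toScheme.IsSeparated := ⟨by rw [← terminal.comp_from (P.left.homOfLE hVV₀)]; infer_instance⟩
  haveI : QuasiCompact (f0 ∣_ V) := quasiCompact_of_compactSpace (f0 ∣_ V)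
  haveI : Surjective (f0 ∣_ V) := ⟨fun ⟨p, z, hz⟩ =>
    ⟨⟨z, ⟨z, rfl⟩⟩, Subtype.ext ((morphismRestrict_base_coe f0 V _).trans hz)⟩⟩
  haveI : Flat (f0 ∣_ V) := IsZariskiLocalAtTarget.restrict (P := @Flat) inferInstance V
  have hσ' : σ ≫ v.left = g := hσ
  let T : Over S := Over.mk ((U'.ι ≫ f0) ≫ P.hom)
  let τ : T ⟶ E := Over.homMk (U'.ι ≫ U.ι ≫ σ) (by
    show (U'.ι ≫ U.ι ≫ σ) ≫ E.hom = (U'.ι ≫ U.ι ≫ g) ≫ P.hom
    rw [← Over.w v, ← hσ']
    simp only [Category.assoc])
  have sq := (isPullback_trivialise' hex τ).map (Over.forget S)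
  simp only [Over.forget_map, Over.comp_left] at sq
  have hτ : τ.left ≫ v.left = f0 ∣_ V ≫ V.ι := by
    show (U'.ι ≫ U.ι ≫ σ) ≫ v.left = _
    rw [morphismRestrict_ι]
    show _ = U'.ι ≫ U.ι ≫ g
    rw [← hσ']
    simp only [Category.assoc]
  rw [hτ] at sq
  have hr := (isPullback_morphismRestrict v.left V).flip
  let l := hr.lift ((fst T M ≫ τ) * (snd T M ≫ u)).left ((fst T M).left ≫ f0 ∣_ V) (by
    rw [Category.assoc]; exact sq.w)
  have sq2 : IsPullback l (fst T M).left (v.left ∣_ V) (f0 ∣_ V) :=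
    IsPullback.of_right (by rw [hr.lift_fst]; exact sq) (hr.lift_snd _ _ _) hr
  haveI : Etale (fst T M).left := MorphismProperty.pullback_fst (P := @Etale) _ _ ‹Etale M.hom›
  exact ⟨V, ⟨⟨y, hyU⟩, hy⟩, MorphismProperty.of_isPullback_of_descendsAlong (P := @Etale)
    (Q := @Surjective ⊓ @Flat ⊓ @QuasiCompact) sq2.flip ⟨⟨‹_›, ‹_›⟩, ‹_›⟩ ‹_›⟩

theorem isSeparated_of_exact (hex : NonAbH1.IsExactSeq Scheme.fppfPrecoverage u v)
    [Etale M.hom] [IsClosedImmersion (η[M]).left] : IsSeparated v.left := by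
  haveI hu : IsMonHom u := hex.1
  have sq : IsPullback (fst E M).left ((E ◁ u) ≫ μ[E]).left v.left v.left := hex.2.2.2.1.map (Over.forget S)
  refine ⟨?_⟩
  let s : E ⟶ E ⊗ M := lift (𝟙 E) 1
  haveI : IsClosedImmersion s.left := by
    haveI hsep : IsSeparated (fst E M).left := by
      haveI : IsSeparated M.hom := by
        rw [H19Grp.isSeparated_iff_isClosedImmersion_one M]
        infer_instance
      exact MorphismProperty.pullback_fst (P := @IsSeparated) _ _ ‹IsSeparated M.hom›
    haveI : IsClosedImmersion (s.left ≫ (fst E M).left) := by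
      rw [← Over.comp_left, lift_fst]; exact inferInstanceAs (IsClosedImmersion (𝟙 E.left))
    exact IsClosedImmersion.of_comp s.left (fst E M).left
  have hdiag : s.left ≫ sq.isoPullback.hom = pullback.diagonal v.left := by
    refine pullback.hom_ext ?_ ?_
    · rw [Category.assoc, sq.isoPullback_hom_fst, pullback.diagonal_fst, ← Over.comp_left, lift_fst]; rfl
    · rw [Category.assoc, sq.isoPullback_hom_snd, pullback.diagonal_snd, ← Over.comp_left, ← Category.assoc s,
        lift_whiskerLeft, MonObj.one_comp, ← Hom.mul_def, _root_.mul_one]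
      rfl
  rw [← hdiag]
  infer_instance

/-- Over a field, an extension of a connected group by a constant lattice has the component of the unit as a section. -/
theorem exists_section_fibre {k : Type u} [Field k] {M E P : Over (Spec (CommRingCat.of k))} [GrpObj M] [GrpObj E]
    [GrpObj P] {u : M ⟶ E} {v : E ⟶ P} (hex : NonAbH1.IsExactSeq Scheme.fppfPrecoverage u v)
    [LocallyOfFiniteType P.hom] [ConnectedSpace P.left] {r : ℕ}
    (e : M ≅ TwC.const (Spec (CommRingCat.of k)) (Multiplicative (Fin r → ℤ)))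
    (he : TwC.IsConstGrp (Multiplicative (Fin r → ℤ)) M e) :
    ∃ s : P ⟶ E, s ≫ v = 𝟙 P ∧ IsOpenImmersion s.left ∧
      Set.range s.left = connectedComponent (H19Grp.ept E) := by
  obtain ⟨e', he'⟩ := exists_ulift e he
  have hZ : ∀ z : ULift.{u} (Multiplicative (Fin r → ℤ)), IsOfFinOrder z → z = 1 := fun z hz => by
    have h1 : IsOfFinOrder z.down :=
      (MulEquiv.ulift : ULift.{u} (Multiplicative (Fin r → ℤ)) ≃* _).toMonoidHom.isOfFinOrder hz
    by_contra h
    exact not_isOfFinOrder_of_isMulTorsionFree (fun h2 => h (ULift.ext _ _ h2)) h1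
  obtain ⟨-, s, hs, hsv⟩ := S8708.result k _ hZ P E M e' he' u v hex
  haveI := hs
  haveI := etale_of_exact hex e'
  haveI : Etale M.hom := etale_const e'
  haveI : IsClosedImmersion (η[M]).left := by
    haveI : IsSeparated M.hom := H19Grp.AffineQuotient.isSeparated_of_grp M
    exact (H19Grp.isSeparated_iff_isClosedImmersion_one M).1 inferInstance
  haveI := isSeparated_of_exact hex
  have h1 : s.left ≫ v.left = 𝟙 P.left := by rw [← Over.comp_left, hsv]; rfl
  haveI : IsOpenImmersion s.left := by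
    haveI : Etale (s.left ≫ v.left) := by rw [h1]; infer_instance
    haveI : Etale s.left := Etale.of_comp s.left v.left
    haveI : Mono (s.left ≫ v.left) := by rw [h1]; infer_instance
    haveI : Mono s.left := mono_of_mono s.left v.left
    exact IsOpenImmersion.of_flat_of_mono s.left
  haveI : IsClosedImmersion s.left := by
    haveI : IsClosedImmersion (s.left ≫ v.left) := by rw [h1]; infer_instance
    exact IsClosedImmersion.of_comp s.left v.left
  have hpt : H19Grp.ept E ∈ Set.range s.left := ⟨H19Grp.ept P, by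
    show s.left ((η[P]).left _) = (η[E]).left _
    rw [← Scheme.Hom.comp_apply, ← Over.comp_left, IsMonHom.one_hom]⟩
  exact ⟨s, hsv, inferInstance, Set.Subset.antisymm
    ((isPreconnected_range s.left.continuous).subset_connectedComponent hpt)
    (IsClopen.connectedComponent_subset ⟨s.left.isClosedEmbedding.isClosed_range, s.left.isOpenEmbedding.isOpen_range⟩ hpt)⟩

/-- An extension of a smooth group with connected fibres by a twisted lattice has a section which is trivial at the unit. -/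
theorem exists_section_twisted (hM : IsTwistedLattice M) (hex : NonAbH1.IsExactSeq Scheme.fppfPrecoverage u v)
    [Smooth P.hom] [QuasiSeparated P.hom] [GeometricallyConnected P.hom] :
    ∃ s : P ⟶ E, s ≫ v = 𝟙 P ∧ η[P] ≫ s = η[E] := by
  haveI hvm : IsMonHom v := hex.2.1
  obtain ⟨het, hcl⟩ := twistedLattice_props hM
  haveI := het
  haveI := hcl
  haveI := etale_of_exact' hex
  haveI := isSeparated_of_exact hex
  haveI : Smooth E.hom := by rw [← Over.w v]; infer_instance
  haveI : QuasiSeparated E.hom := by rw [← Over.w v]; infer_instance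
  have hq : (η[E]).left ≫ E.hom = 𝟙 S := Over.w η[E]
  let W := MoreMor.sectionComponents E.hom (η[E]).left
  have hWopen : IsOpen W := by
    rw [isOpen_iff_mem_nhds]
    intro x hx
    obtain ⟨V, hV, hxV, -⟩ := exists_isAffineOpen_mem_and_subset (X := S) (x := E.hom x) (U := ⊤) trivial
    have le2 : V ≤ (η[E]).left ⁻¹ᵁ (E.hom ⁻¹ᵁ V) := fun a ha =>
      show E.hom ((η[E]).left a) ∈ V by rw [H06EGA15.f_g_apply E.hom _ hq a]; exact ha
    let e₁ := (η[E]).left.resLE (E.hom ⁻¹ᵁ V) V le2
    have hP : IsPullback (E.hom ⁻¹ᵁ V).ι (E.hom ∣_ V) E.hom V.ι := (isPullback_morphismRestrict E.hom V).flip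
    have he₁ : e₁ ≫ (E.hom ∣_ V) = 𝟙 _ := by
      rw [← cancel_mono V.ι]
      simp [e₁, Scheme.Hom.resLE_comp_ι_assoc]
    haveI : IsAffine V.toScheme := hV
    haveI : QuasiSeparated (E.hom ∣_ V) := IsZariskiLocalAtTarget.restrict (P := @QuasiSeparated) inferInstance V
    haveI : QuasiSeparatedSpace (E.hom ⁻¹ᵁ V).toScheme :=
      (quasiSeparated_iff_quasiSeparatedSpace (E.hom ∣_ V)).mp inferInstance
    have hmem := H06SecComp.mem_component_iff_of_model hP he₁ hq (Scheme.Hom.resLE_comp_ι _ _)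
    obtain ⟨x', rfl⟩ := (E.hom ⁻¹ᵁ V).range_ι.ge hxV
    refine Filter.mem_of_superset (((E.hom ⁻¹ᵁ V).ι.isOpenEmbedding.isOpenMap _
      (S15351.result (E.hom ∣_ V) e₁ he₁)).mem_nhds ⟨x', (hmem x').mpr hx, rfl⟩) ?_
    rintro _ ⟨b, hb, rfl⟩
    exact (hmem b).mp hb
  obtain ⟨S', f, -, hsurj, -, hloc⟩ := id hM
  -- the fibres
  have hfib : ∀ s : S, ∃ (k : Type u) (_ : Field k) (J : Spec (CommRingCat.of k) ⟶ S) (EK PK : Scheme.{u})
      (π : EK ⟶ E.left) (qE : EK ⟶ Spec (CommRingCat.of k)) (πP : PK ⟶ P.left)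
      (qP : PK ⟶ Spec (CommRingCat.of k)) (vK : EK ⟶ PK) (sK : PK ⟶ EK),
      s ∈ Set.range J ∧ IsPullback π qE E.hom J ∧ IsPullback πP qP P.hom J ∧ vK ≫ πP = π ≫ v.left ∧
        vK ≫ qP = qE ∧ sK ≫ vK = 𝟙 PK ∧ IsOpenImmersion sK ∧ π ⁻¹' W = Set.range sK := by
    intro s
    obtain ⟨s', rfl⟩ := hsurj.surj s
    obtain ⟨U, hU, r, e, he⟩ := hloc s'
    let g := U.ι ≫ f
    let s'' : U.toScheme := ⟨s', hU⟩
    let k := U.toScheme.residueField s''
    let j := U.toScheme.fromSpecResidueField s''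
    let Ek := Red.bc j (Red.bc g E)
    let Pk := Red.bc j (Red.bc g P)
    letI : GrpObj Ek := inferInstanceAs (GrpObj ((Over.pullback j).obj ((Over.pullback g).obj E)))
    have hexk := isExactSeq_bc (isExactSeq_bc hex g) j
    obtain ⟨e0, he0⟩ := exists_ulift e he
    obtain ⟨e1, he1⟩ := exists_bc_isConstGrp he0 j
    let c : TwC.const (Spec k) (ULift.{u} (Multiplicative (Fin r → ℤ))) ≅
        TwC.const (Spec k) (Multiplicative (Fin r → ℤ)) :=
      { hom := TwC.constMap _ ULift.down
        inv := TwC.constMap _ ULift.up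
        hom_inv_id := Over.OverMorphism.ext (Sigma.hom_ext _ _ fun m => by simp [TwC.constMap])
        inv_hom_id := Over.OverMorphism.ext (Sigma.hom_ext _ _ fun m => by simp [TwC.constMap]) }
    have he2 : TwC.IsConstGrp (Multiplicative (Fin r → ℤ)) (Red.bc j (Red.bc g M)) (e1 ≪≫ c) := fun m n => by
      have hc : ∀ m, TwC.pt (Spec k) (Multiplicative (Fin r → ℤ)) m ≫ (e1 ≪≫ c).inv =
          TwC.pt (Spec k) _ (ULift.up m) ≫ e1.inv := fun m => by
        rw [Iso.trans_inv, ← Category.assoc]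
        congr 1
        exact Over.OverMorphism.ext (by simp [TwC.pt, c, TwC.constMap])
      rw [hc, hc, hc]; exact he1 ⟨m⟩ ⟨n⟩
    haveI : Smooth (Red.bc g P).hom := MorphismProperty.pullback_snd (P := @Smooth) _ _ ‹Smooth P.hom›
    haveI : Smooth Pk.hom := MorphismProperty.pullback_snd (P := @Smooth) _ _ ‹Smooth (Red.bc g P).hom›
    haveI : LocallyOfFiniteType Pk.hom := inferInstance
    haveI : GeometricallyConnected (Red.bc g P).hom :=
      MorphismProperty.pullback_snd (P := @GeometricallyConnected) _ _ ‹GeometricallyConnected P.hom›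
    haveI : GeometricallyConnected Pk.hom :=
      MorphismProperty.pullback_snd (P := @GeometricallyConnected) _ _ ‹GeometricallyConnected (Red.bc g P).hom›
    haveI : ConnectedSpace Pk.left := GeometricallyConnected.connectedSpace_of_subsingleton (f := Pk.hom)
    obtain ⟨sk, hsk, hopen, hrange⟩ := exists_section_fibre (k := ↑k) hexk (e1 ≪≫ c) he2
    let π : Ek.left ⟶ E.left := pullback.fst (Red.bc g E).hom j ≫ pullback.fst E.hom g
    let πP : Pk.left ⟶ P.left := pullback.fst (Red.bc g P).hom j ≫ pullback.fst P.hom g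
    have hπ : IsPullback π Ek.hom E.hom (j ≫ g) :=
      (IsPullback.of_hasPullback (Red.bc g E).hom j).paste_horiz (IsPullback.of_hasPullback E.hom g)
    have hπP : IsPullback πP Pk.hom P.hom (j ≫ g) :=
      (IsPullback.of_hasPullback (Red.bc g P).hom j).paste_horiz (IsPullback.of_hasPullback P.hom g)
    have hvk : ((Over.pullback j).map ((Over.pullback g).map v)).left ≫ πP = π ≫ v.left := by
      show _ ≫ _ ≫ _ = (_ ≫ _) ≫ _
      rw [← Category.assoc, show ((Over.pullback j).map ((Over.pullback g).map v)).left ≫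
        pullback.fst (Red.bc g P).hom j = pullback.fst (Red.bc g E).hom j ≫ ((Over.pullback g).map v).left from
        pullback.lift_fst _ _ _, Category.assoc, show ((Over.pullback g).map v).left ≫ pullback.fst P.hom g =
        pullback.fst E.hom g ≫ v.left from pullback.lift_fst _ _ _, Category.assoc]
    have hone : (η[Ek]).left ≫ π = (j ≫ g) ≫ (η[E]).left := by
      show (η[Ek]).left ≫ _ ≫ _ = _
      rw [← Category.assoc, H19Grp.bc_one j (Red.bc g E), Category.assoc, H19Grp.bc_one g E]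
      simp only [g, Category.assoc]
    have hW : π ⁻¹' W = connectedComponent ((η[Ek]).left (IsLocalRing.closedPoint ↑k)) := by
      have h1 := H06SecComp.sectionComponents_baseChange E.hom (η[E]).left hq Ek.hom π (j ≫ g) hπ
        (η[Ek]).left (Over.w η[Ek]) hone
      rw [show W = MoreMor.sectionComponents E.hom (η[E]).left from rfl, ← h1]
      ext w
      show w ∈ connectedComponentIn _ _ ↔ _
      rw [show Ek.hom ⁻¹' {Ek.hom w} = Set.univ from Set.eq_univ_of_forall fun z =>
          (@Subsingleton.elim (Spec k) inferInstance (Ek.hom z) (Ek.hom w)), connectedComponentIn_univ,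
        @Subsingleton.elim (Spec k) inferInstance (Ek.hom w) (IsLocalRing.closedPoint ↑k)]
    refine ⟨↑k, inferInstance, j ≫ g, Ek.left, Pk.left, π, Ek.hom, πP, Pk.hom,
      ((Over.pullback j).map ((Over.pullback g).map v)).left, sk.left, ⟨default, ?_⟩, hπ, hπP, hvk,
      Over.w _, ?_, hopen, hW.trans hrange.symm⟩
    · rw [Scheme.Hom.comp_apply, Scheme.fromSpecResidueField_apply]
      rfl
    · rw [← Over.comp_left, hsk]; rfl
  let Wo : E.left.Opens := ⟨W, hWopen⟩
  let h := Wo.ι ≫ v.left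
  haveI : Mono h := by
    rw [← pullback.isIso_diagonal_iff]
    haveI : FormallyUnramified h := inferInstance
    haveI : LocallyOfFiniteType h := inferInstance
    haveI : IsOpenImmersion (pullback.diagonal h) := inferInstance
    refine (isIso_iff_isOpenImmersion_and_surjective _).2 ⟨inferInstance, ⟨fun z => ?_⟩⟩
    let a := pullback.fst h h ≫ Wo.ι
    let b := pullback.snd h h ≫ Wo.ι
    have hab : a ≫ v.left = b ≫ v.left := by
      simp only [a, b, Category.assoc]
      exact pullback.condition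
    have habE : a ≫ E.hom = b ≫ E.hom := by
      rw [← Over.w v, ← Category.assoc, hab, Category.assoc]
    obtain ⟨k, _, J, EK, PK, π, qE, πP, qP, vK, sK, ⟨t, ht⟩, hπ, hπP, hvπ, hvq, hsv, hopen, hW⟩ :=
      hfib ((a ≫ E.hom) z)
    haveI := hopen
    obtain ⟨w, hw, -⟩ := Scheme.Pullback.exists_preimage_pullback (f := a ≫ E.hom) (g := J) z t ht.symm
    obtain ⟨T, p1, p2, r, hr, hc⟩ : ∃ (T : Scheme.{u}) (p1 : T ⟶ pullback h h) (p2 : T ⟶ Spec (CommRingCat.of k))
        (r : T), p1 r = z ∧ p1 ≫ a ≫ E.hom = p2 ≫ J :=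
      ⟨_, pullback.fst (a ≫ E.hom) J, pullback.snd (a ≫ E.hom) J, w, hw, pullback.condition⟩
    have hca : (p1 ≫ a) ≫ E.hom = p2 ≫ J := (Category.assoc _ _ _).trans hc
    have hcb : (p1 ≫ b) ≫ E.hom = p2 ≫ J := by rw [Category.assoc, ← habE]; exact hc
    let aK := hπ.lift (p1 ≫ a) p2 hca
    let bK := hπ.lift (p1 ≫ b) p2 hcb
    have hrange : ∀ (c : pullback h h ⟶ Wo.toScheme) (cK : _ ⟶ EK), cK ≫ π = p1 ≫ c ≫ Wo.ι →
        Set.range cK ⊆ Set.range sK := fun c cK hcK => by
      rintro _ ⟨x, rfl⟩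
      rw [← hW, Set.mem_preimage, ← Scheme.Hom.comp_apply, hcK, ← Category.assoc, Scheme.Hom.comp_apply]
      exact ((p1 ≫ c) x).2
    let la := IsOpenImmersion.lift sK aK (hrange _ aK (hπ.lift_fst _ _ _))
    let lb := IsOpenImmersion.lift sK bK (hrange _ bK (hπ.lift_fst _ _ _))
    have hla : la ≫ sK = aK := IsOpenImmersion.lift_fac _ _ _
    have hlb : lb ≫ sK = bK := IsOpenImmersion.lift_fac _ _ _
    have hlab : la = lb := by
      rw [← Category.comp_id la, ← Category.comp_id lb, ← hsv, ← Category.assoc, ← Category.assoc, hla, hlb]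
      refine hπP.hom_ext ?_ ?_
      · rw [Category.assoc, Category.assoc, hvπ, hπ.lift_fst_assoc, hπ.lift_fst_assoc, Category.assoc p1 a,
          Category.assoc p1 b, hab]
      · rw [Category.assoc, Category.assoc, hvq, hπ.lift_snd, hπ.lift_snd]
    have hab' : p1 ≫ a = p1 ≫ b := by
      rw [← hπ.lift_fst (p1 ≫ a) p2 hca, ← hπ.lift_fst (p1 ≫ b) p2 hcb]
      show aK ≫ π = bK ≫ π
      rw [← hla, ← hlb, hlab]
    have hfs : p1 ≫ pullback.fst h h = p1 ≫ pullback.snd h h := by
      rw [← cancel_mono Wo.ι, Category.assoc, Category.assoc]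
      exact hab'
    have hd : p1 = (p1 ≫ pullback.fst h h) ≫ pullback.diagonal h := by
      refine pullback.hom_ext ?_ ?_
      · simp
      · rw [Category.assoc, pullback.diagonal_snd, Category.comp_id, hfs]
    refine ⟨(p1 ≫ pullback.fst h h) r, ?_⟩
    rw [← Scheme.Hom.comp_apply, ← hd]
    exact hr
  haveI : IsOpenImmersion h := IsOpenImmersion.of_flat_of_mono h
  haveI : Surjective h := ⟨fun p => by
    obtain ⟨k, _, J, EK, PK, π, qE, πP, qP, vK, sK, ⟨t, ht⟩, hπ, hπP, hvπ, hvq, hsv, hopen, hW⟩ := hfib (P.hom p)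
    obtain ⟨pK, hpK, -⟩ := Scheme.exists_preimage_of_isPullback hπP p t ht.symm
    refine ⟨⟨π (sK pK), (show sK pK ∈ π ⁻¹' W by rw [hW]; exact ⟨pK, rfl⟩)⟩, ?_⟩
    show v.left (π (sK pK)) = p
    rw [← Scheme.Hom.comp_apply, ← hvπ, ← Scheme.Hom.comp_apply, ← Category.assoc, hsv, Category.id_comp, hpK]⟩
  haveI : IsIso h := (isIso_iff_isOpenImmersion_and_surjective h).2 ⟨inferInstance, inferInstance⟩
  have hηW : Set.range (η[E]).left ⊆ Set.range Wo.ι := by
    rintro _ ⟨x, rfl⟩
    rw [Scheme.Opens.range_ι]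
    show _ ∈ connectedComponentIn _ _
    have hx := H06EGA15.f_g_apply E.hom (η[E]).left hq x
    rw [hx]
    exact mem_connectedComponentIn hx
  let s : P ⟶ E := Over.homMk (inv h ≫ Wo.ι) (by
    rw [← Over.w v, ← Category.assoc, show (inv h ≫ Wo.ι) ≫ v.left = 𝟙 _ from
      (Category.assoc _ _ _).trans (IsIso.inv_hom_id h), Category.id_comp])
  refine ⟨s, Over.OverMorphism.ext ((Category.assoc _ _ _).trans (IsIso.inv_hom_id h)), Over.OverMorphism.ext ?_⟩
  let l := IsOpenImmersion.lift Wo.ι (η[E]).left hηW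
  have hl : l ≫ Wo.ι = (η[E]).left := IsOpenImmersion.lift_fac _ _ _
  have hlh : l ≫ h = (η[P]).left := by
    rw [← Category.assoc, hl, ← Over.comp_left, IsMonHom.one_hom]
  show (η[P]).left ≫ inv h ≫ Wo.ι = (η[E]).left
  rw [← hlh, Category.assoc, IsIso.hom_inv_id_assoc, hl]

end Groth.Agent.H28Const
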