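import Groth.Agent.H06Unram.EtaleUnibranch
import Groth.Agent.H28Const.Torsor
import Mathlib

/-!
# Maximal points of schemes smooth over geometrically unibranch schemes
-/

set_option autoImplicit false
set_option linter.style.haveILetI false
set_option backward.isDefEq.respectTransparency.types false

universe u

open CategoryTheory AlgebraicGeometry Topology

namespace Groth.Agent.H28Const

variable {X Y : Scheme.{u}}

/-- A maximal point: no proper generization. -/
def IsMax (c : X) : Prop := ∀ z : X, z ⤳ c → z = c

theorem closure_mem_components {c : X} (hc : IsMax c) : closure {c} ∈ irreducibleComponents ↥X := by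
  refine ⟨isIrreducible_singleton.closure, fun T hT hle => ?_⟩
  obtain ⟨s, hs⟩ := QuasiSober.sober hT.closure isClosed_closure
  obtain rfl := hc s (hs.specializes (subset_closure (hle (subset_closure rfl))))
  exact subset_closure.trans hs.def.symm.subset

theorem exists_isMax (x : X) : ∃ c, IsMax c ∧ c ⤳ x := by
  obtain ⟨c, hc⟩ := QuasiSober.sober (isIrreducible_irreducibleComponent (x := x)) isClosed_irreducibleComponent
  refine ⟨c, fun z hz => ?_, hc.specializes mem_irreducibleComponent⟩
  have h := (irreducibleComponent_mem_irreducibleComponents x).2 isIrreducible_singleton.closure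
    (hc.def ▸ hz.closure_subset)
  exact (hc.specializes (h (subset_closure rfl))).antisymm hz |>.symm.eq

theorem IsMax.map (f : X ⟶ Y) [Flat f] {c : X} (hc : IsMax c) : IsMax (f c) := fun w hw => by
  obtain ⟨z, hz, rfl⟩ := (Flat.generalizingMap f) hw
  rw [hc z hz]

/-- Unique maximal generizations. -/
theorem isMax_unique (f : X ⟶ Y) [Smooth f] (hY : ∀ y : Y, CAlg2.IsGeomUnibranch (Y.presheaf.stalk y))
    {x c c' : X} (hc : IsMax c) (h : c ⤳ x) (hc' : IsMax c') (h' : c' ⤳ x) : c = c' := by
  obtain ⟨Z, -, hZ⟩ := H06Unram.existsUnique_component x (H06Unram.minimalPrimes_subsingleton_of_isDomain_red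
    (H06Unram.geomUnibranch_stalk f ((H17.LocusBC.mem_smoothLocus_iff_exists f x).2 ⟨⊤, trivial, inferInstance⟩)
      (hY _)).1.1)
  have h1 := hZ _ ⟨closure_mem_components hc, h.mem_closure⟩
  have h2 := hZ _ ⟨closure_mem_components hc', h'.mem_closure⟩
  exact ((specializes_iff_closure_subset.2 (h2.trans h1.symm).subset).antisymm
    (specializes_iff_closure_subset.2 (h1.trans h2.symm).subset)).eq

theorem IsMax.eq_genericPoint (f : X ⟶ Y) [Flat f] [IrreducibleSpace Y] {c : X} (hc : IsMax c) :
    f c = genericPoint Y :=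
  ((hc.map f) _ ((genericPoint_spec Y).specializes (Set.mem_univ _))).symm

/-- The closure of a maximal point is open. -/
theorem isOpen_closure_isMax (f : X ⟶ Y) [Smooth f] [IrreducibleSpace Y]
    (hY : ∀ y : Y, CAlg2.IsGeomUnibranch (Y.presheaf.stalk y)) {c : X} (hc : IsMax c) :
    IsOpen (closure {c}) := by
  refine isOpen_iff_forall_mem_open.2 fun x hx => ?_
  obtain ⟨W, hW, hxW, -⟩ := exists_isAffineOpen_mem_and_subset (X := Y) (x := f x) (U := ⊤) trivial
  obtain ⟨V, hV, hxV, hle⟩ := exists_isAffineOpen_mem_and_subset (X := X) (x := x) (U := f ⁻¹ᵁ W) hxW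
  have hle' : V ≤ f ⁻¹ᵁ W := hle
  let g := f.resLE W V hle'
  haveI : IsAffine V.toScheme := hV
  haveI : IsAffine W.toScheme := hW
  haveI : QuasiCompact g := (HasAffineProperty.iff_of_isAffine (P := @QuasiCompact)).mpr inferInstance
  haveI : LocallyOfFiniteType g := by dsimp only [g]; infer_instance
  have hηW : genericPoint Y ∈ W := ((genericPoint_spec Y).specializes (Set.mem_univ (f x))).mem_open W.2 hxW
  let η' : W.toScheme := ⟨_, hηW⟩
  haveI : LocallyOfFiniteType (g.fiberToSpecResidueField η') := by
    unfold Scheme.Hom.fiberToSpecResidueField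
    exact MorphismProperty.pullback_snd (P := @LocallyOfFiniteType) _ _ inferInstance
  haveI : IsLocallyNoetherian (g.fiber η') := LocallyOfFiniteType.isLocallyNoetherian (g.fiberToSpecResidueField η')
  haveI : CompactSpace (g.fiber η') := by
    haveI : QuasiCompact (g.fiberToSpecResidueField η') := by
      unfold Scheme.Hom.fiberToSpecResidueField; infer_instance
    exact QuasiCompact.compactSpace_of_compactSpace (g.fiberToSpecResidueField η')
  haveI : IsNoetherian (g.fiber η') := {}
  have hfin : {a : X | a ∈ V ∧ IsMax a}.Finite := by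
    have hcf := TopologicalSpace.NoetherianSpace.finite_irreducibleComponents (α := g.fiber η')
    let S : Set (g.fiber η') := {w | IsMax (V.ι (g.fiberι η' w))}
    have hS : S.Finite := by
      refine Set.Finite.of_finite_image (f := fun w => closure ({w} : Set (g.fiber η')))
        (hcf.subset ?_) fun w _ w' _ h => ?_
      · rintro _ ⟨w, hw, rfl⟩
        refine closure_mem_components fun z hz => ?_
        have h1 := hw _ ((hz.map (g.fiberι η').continuous).map V.ι.continuous)
        exact (g.fiberι η').isEmbedding.injective (V.ι.isOpenEmbedding.injective h1)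
      · exact ((specializes_iff_closure_subset.2 h.symm.subset).antisymm
          (specializes_iff_closure_subset.2 h.subset)).eq
    refine (hS.image (fun w => V.ι (g.fiberι η' w))).subset ?_
    rintro a ⟨haV, ha⟩
    have hga : g (⟨a, haV⟩ : V.toScheme) = η' := by
      apply W.ι.isOpenEmbedding.injective
      show (g ≫ W.ι).base ⟨a, haV⟩ = _
      rw [Scheme.Hom.resLE_comp_ι, Scheme.Hom.comp_apply]
      exact ha.eq_genericPoint f
    obtain ⟨w, hw⟩ := (g.range_fiberι η').ge hga
    have hwa : V.ι (g.fiberι η' w) = a := by rw [hw]; rfl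
    exact ⟨w, show IsMax _ by rw [hwa]; exact ha, hwa⟩
  let F : Set X := ⋃ a ∈ {a : X | a ∈ V ∧ IsMax a} \ {c}, closure {a}
  have hF : IsClosed F := hfin.sdiff.isClosed_biUnion fun _ _ => isClosed_closure
  refine ⟨(V : Set X) \ F, fun w hw => ?_, V.2.sdiff hF, hxV, fun hxF => ?_⟩
  · obtain ⟨a, ha, haw⟩ := exists_isMax w
    rcases eq_or_ne a c with rfl | hne
    · exact haw.mem_closure
    · exact absurd (show w ∈ F from Set.mem_biUnion (x := a) ⟨⟨haw.mem_open V.2 hw.1, ha⟩, hne⟩ haw.mem_closure) hw.2
  · obtain ⟨a, ⟨⟨-, ha⟩, hne⟩, hxa⟩ := Set.mem_iUnion₂.mp hxF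
    exact hne (isMax_unique f hY ha (specializes_iff_mem_closure.2 hxa) hc (specializes_iff_mem_closure.2 hx))

end Groth.Agent.H28Const
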